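import Groth.Agent.EtNhdLib.Kill
import Mathlib

/-!
# A strongly étale neighbourhood of a closed orbit
-/

set_option autoImplicit false
set_option backward.isDefEq.respectTransparency false
set_option backward.isDefEq.respectTransparency.types false

noncomputable section

universe u

open TensorProduct WithConv

namespace Groth.Agent.EtNhd

open Groth.Agent.Comodule Groth.Agent.EqZMT Groth.Agent.EtInv

variable {k : Type u} [Field k] [IsAlgClosed k] [CharZero k] {A : Type u} [CommRing A] [IsDomain A]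
  [HopfAlgebra k A] [Algebra.FiniteType k A]
variable {S : Type u} [CommRing S] [Algebra k S] [Algebra.FiniteType k S] [HopfRep.Comod k A S]
  [GLin.IsCoactAlg k A S]
variable {R : Type u} [CommRing R] [Algebra k R] [Algebra.FiniteType k R] [HopfRep.Comod k A R]
  [GLin.IsCoactAlg k A R]
variable [Algebra S R] [IsScalarTower k S R]
variable {S₀ : Type u} [CommRing S₀] [Algebra k S₀] [Algebra S₀ S] [IsScalarTower k S₀ S]
variable {R₀ : Type u} [CommRing R₀] [Algebra k R₀] [Algebra R₀ R] [IsScalarTower k R₀ R]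
variable [Algebra S₀ R₀] [Algebra S₀ R] [IsScalarTower S₀ S R] [IsScalarTower S₀ R₀ R]

/-- A standard étale model of the invariants over which the coordinate ring is generated. -/
theorem exists_standard (hA : HopfRep.IsLinearlyReductive k A) (hequiv : Equivariant k A S R)
    (hS₀ : ∀ c : S, c ∈ GLin.invariants k A S ↔ ∃ r, algebraMap S₀ S r = c)
    (hR₀i : Function.Injective (algebraMap R₀ R))
    (hR₀ : ∀ c : R, c ∈ GLin.invariants k A R ↔ ∃ r, algebraMap R₀ R r = c)
    (x : R →ₐ[k] k) [(RingHom.ker x).IsPrime] [Algebra.IsEtaleAt S (RingHom.ker x)]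
    (hy : ∀ w : S →ₐ[k] k, RingHom.ker (GLin.orbitHom k A (x.comp (IsScalarTower.toAlgHom k S R))) ≤ RingHom.ker w →
      ∃ g : A →ₐ[k] k, w = GLin.actPt k g (x.comp (IsScalarTower.toAlgHom k S R)))
    (hinj : ∀ g : A →ₐ[k] k, GLin.actPt k g (x.comp (IsScalarTower.toAlgHom k S R)) =
      x.comp (IsScalarTower.toAlgHom k S R) → GLin.actPt k g x = x) :
    ∃ F : R₀, x (algebraMap R₀ R F) ≠ 0 ∧
      (∃ (E : Type u) (_ : CommRing E) (_ : Algebra S₀ E) (_ : Algebra.Etale S₀ E)
        (ψ : E →ₐ[S₀] Localization.Away F), Function.Surjective ψ) ∧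
      ∀ r : R, ∃ (n : ℕ) (z : S ⊗[S₀] R₀),
        Algebra.TensorProduct.productMap (IsScalarTower.toAlgHom S₀ S R) (IsScalarTower.toAlgHom S₀ R₀ R) z =
          algebraMap R₀ R F ^ n * r := by
  classical
  obtain ⟨B, _, _, _, _, _, _, _, _, _, _, _, heSB, heBR, hBi, h, hhi, hhx, hsat⟩ :=
    exists_finite_model hequiv hA x hy
  let B₀ := GLin.invariants k A B
  have hSB₀ : ∀ s : S₀, algebraMap S B (algebraMap S₀ S s) ∈ B₀ := fun s =>
    map_invariant heSB ((hS₀ _).2 ⟨s, rfl⟩)
  letI : Algebra S₀ B₀ := (((algebraMap S B).comp (algebraMap S₀ S)).codRestrict B₀ hSB₀).toAlgebra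
  letI : Algebra S₀ B := ((algebraMap S B).comp (algebraMap S₀ S)).toAlgebra
  haveI : IsScalarTower S₀ S B := IsScalarTower.of_algebraMap_eq fun s => rfl
  haveI : IsScalarTower S₀ B₀ B := IsScalarTower.of_algebraMap_eq fun s => rfl
  haveI : IsScalarTower k S₀ B₀ := IsScalarTower.of_algebraMap_eq fun c => Subtype.ext (by
    show algebraMap k B c = algebraMap S B (algebraMap S₀ S (algebraMap k S₀ c))
    rw [← IsScalarTower.algebraMap_apply k S₀ S, ← IsScalarTower.algebraMap_apply k S B])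
  have hB₀ : ∀ c : B, c ∈ GLin.invariants k A B ↔ ∃ r : B₀, algebraMap B₀ B r = c :=
    fun c => ⟨fun hc => ⟨⟨c, hc⟩, rfl⟩, by rintro ⟨r, rfl⟩; exact r.2⟩
  let xB : B →ₐ[k] k := x.comp (IsScalarTower.toAlgHom k B R)
  haveI : (RingHom.ker xB).IsPrime := RingHom.ker_isPrime _
  have hxB : xB.comp (IsScalarTower.toAlgHom k S B) = x.comp (IsScalarTower.toAlgHom k S R) :=
    AlgHom.ext fun s => by simp [xB, ← IsScalarTower.algebraMap_apply]
  have hhP : algebraMap B R h ∉ RingHom.ker x := fun h0 => by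
    rw [RingHom.mem_ker, hhx] at h0; exact one_ne_zero h0
  haveI : Algebra.IsEtaleAt S (RingHom.ker xB) := by
    have e : RingHom.ker xB = (RingHom.ker x).comap (algebraMap B R) := rfl
    rw! [e]
    exact isEtaleAt_of_model hBi (RingHom.ker x) h hhP hsat
  have hclB : ∀ φ : B →ₐ[k] k, RingHom.ker (GLin.orbitHom k A xB) ≤ RingHom.ker φ →
      ∃ g : A →ₐ[k] k, φ = GLin.actPt k g xB :=
    closed_above heSB xB (by rw [hxB]; exact hy) (r := 1) (by simp) isIntegral_one
      fun c => ⟨0, Algebra.IsIntegral.isIntegral _⟩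
  have hinjB : ∀ g : A →ₐ[k] k, GLin.actPt k g (xB.comp (IsScalarTower.toAlgHom k S B)) =
      xB.comp (IsScalarTower.toAlgHom k S B) → GLin.actPt k g xB = xB := by
    intro g hg
    rw [hxB] at hg
    show GLin.actPt k g (x.comp (IsScalarTower.toAlgHom k B R)) = _
    rw [← actPt_comp heBR, hinj g hg]
  haveI : Algebra.FiniteType k B₀ := finiteType_invariants hA Subtype.val_injective hB₀
  haveI : Algebra.FiniteType S₀ B₀ := Algebra.FiniteType.of_restrictScalars_finiteType k S₀ B₀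
  haveI := isUnramifiedAt_invariants hA heSB hS₀ (R₀ := B₀) Subtype.val_injective hB₀ xB hclB hinjB
  obtain ⟨a, hax, ha⟩ := exists_surjective_invariant (S₀ := S₀) (B₀ := B₀) hA heSB hB₀ xB hclB hinjB
  obtain ⟨f1, hf1, hE⟩ := Algebra.IsUnramifiedAt.exists_hasStandardEtaleSurjectionOn (R := S₀)
    ((RingHom.ker xB).comap (algebraMap B₀ B))
  let h₀ : B₀ := ⟨h, hhi⟩
  let f : B₀ := f1 * (a * h₀)
  obtain ⟨P, φ, hφ⟩ := hE.of_dvd (g := f) ⟨a * h₀, rfl⟩
  have hιex : ∀ b : B₀, ∃ r : R₀, algebraMap R₀ R r = algebraMap B R (b : B) :=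
    fun b => (hR₀ _).1 (map_invariant heBR b.2)
  choose ι hι using hιex
  let ιh : B₀ →ₐ[S₀] R₀ :=
    { toFun := ι
      map_one' := hR₀i (by rw [hι, map_one]; exact map_one _)
      map_mul' := fun b c => hR₀i (by rw [hι, map_mul, hι, hι, ← map_mul]; rfl)
      map_zero' := hR₀i (by rw [hι, map_zero]; exact map_zero _)
      map_add' := fun b c => hR₀i (by rw [hι, map_add, hι, hι, ← map_add]; rfl)
      commutes' := fun s => hR₀i (by
        rw [hι, ← IsScalarTower.algebraMap_apply S₀ R₀ R, IsScalarTower.algebraMap_apply S₀ S R,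
          IsScalarTower.algebraMap_apply S B R]
        rfl) }
  have hιh : ∀ b : B₀, algebraMap R₀ R (ιh b) = algebraMap B R (b : B) := hι
  let F : R₀ := ιh f
  have hxF : x (algebraMap R₀ R F) ≠ 0 := by
    rw [hιh]
    show xB ((f1 : B) * ((a : B) * h)) ≠ 0
    rw [map_mul, map_mul, show xB (a : B) = 1 from hax, show xB h = 1 from hhx, mul_one, mul_one]
    exact fun h0 => hf1 (RingHom.mem_ker.2 h0)
  refine ⟨F, hxF, ?_, ?_⟩
  · have huι : IsUnit (((IsScalarTower.toAlgHom S₀ R₀ (Localization.Away F)).comp ιh) f) :=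
      IsLocalization.Away.algebraMap_isUnit F
    let μ : Localization.Away f →ₐ[S₀] Localization.Away F :=
      IsLocalization.liftAlgHom (M := Submonoid.powers f) (S := Localization.Away f)
        (f := (IsScalarTower.toAlgHom S₀ R₀ (Localization.Away F)).comp ιh)
        (by rintro ⟨_, n, rfl⟩; rw [map_pow]; exact huι.pow n)
    have hμ : ∀ b, μ (algebraMap B₀ _ b) = algebraMap R₀ _ (ιh b) := fun b => IsLocalization.lift_eq _ b
    refine ⟨P.Ring, inferInstance, inferInstance, inferInstance, μ.comp φ, fun z => ?_⟩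
    obtain ⟨r, ⟨_, n, rfl⟩, rfl⟩ := IsLocalization.exists_mk'_eq (Submonoid.powers F) z
    obtain ⟨i, b, hb⟩ := hsat (algebraMap R₀ R r)
    have hbi : b ∈ GLin.invariants k A B := invariant_of_map heBR hBi (by
      rw [hb]
      exact mul_mem (pow_mem (map_invariant heBR hhi) i) ((hR₀ _).2 ⟨r, rfl⟩))
    have hr : ιh ⟨b, hbi⟩ = ιh h₀ ^ i * r := hR₀i (by rw [hιh, map_mul, map_pow, hιh]; exact hb)
    obtain ⟨e, he⟩ := hφ (IsLocalization.mk' (Localization.Away f) ((⟨b, hbi⟩ : B₀) * (f1 * a) ^ i)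
      (⟨f ^ (i + n), i + n, rfl⟩ : Submonoid.powers f))
    refine ⟨e, ?_⟩
    rw [AlgHom.comp_apply, he, IsLocalization.eq_mk'_iff_mul_eq]
    have hu : IsUnit (algebraMap R₀ (Localization.Away F) (F ^ i)) := by
      rw [map_pow]; exact (IsLocalization.Away.algebraMap_isUnit F).pow i
    refine hu.mul_right_cancel ?_
    have h1 := congrArg μ (IsLocalization.mk'_spec (Localization.Away f) ((⟨b, hbi⟩ : B₀) * (f1 * a) ^ i)
      (⟨f ^ (i + n), i + n, rfl⟩ : Submonoid.powers f))
    rw [map_mul, hμ, hμ] at h1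
    simp only at h1 ⊢
    rw [mul_assoc, ← map_mul, ← map_mul, show F ^ n * F ^ i = ιh (f ^ (i + n)) by rw [map_pow]; ring,
      show r * F ^ i = ιh ((⟨b, hbi⟩ : B₀) * (f1 * a) ^ i) by
        rw [map_mul, map_pow, map_mul, hr]
        show r * (ιh (f1 * (a * h₀))) ^ i = _
        rw [map_mul, map_mul]
        ring]
    exact h1
  · intro r
    obtain ⟨n, b, hb⟩ := hsat r
    obtain ⟨w, hw⟩ := ha ((a : B) ^ n * (f1 : B) ^ (n + 1) * h * b)
    refine ⟨n + 1, Algebra.TensorProduct.map (AlgHom.id S₀ S) ιh w, ?_⟩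
    have key : ∀ w : S ⊗[S₀] B₀,
        Algebra.TensorProduct.productMap (IsScalarTower.toAlgHom S₀ S R) (IsScalarTower.toAlgHom S₀ R₀ R)
          (Algebra.TensorProduct.map (AlgHom.id S₀ S) ιh w) =
        algebraMap B R (Algebra.TensorProduct.productMap (IsScalarTower.toAlgHom S₀ S B)
          (IsScalarTower.toAlgHom S₀ B₀ B) w) := by
      intro w
      induction w with
      | zero => simp
      | add p q hp hq => simp only [map_add, hp, hq]
      | tmul s c =>
        simp only [Algebra.TensorProduct.map_tmul, Algebra.TensorProduct.productMap_apply_tmul,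
          IsScalarTower.coe_toAlgHom', AlgHom.coe_id, id_eq, hιh, map_mul, ← IsScalarTower.algebraMap_apply S B R]
        rfl
    rw [key, show Algebra.TensorProduct.productMap (IsScalarTower.toAlgHom S₀ S B)
          (IsScalarTower.toAlgHom S₀ B₀ B) w = algebraMap B₀ B a * ((a : B) ^ n * (f1 : B) ^ (n + 1) * h * b) from hw,
      hιh]
    show algebraMap B R ((a : B) * _) = algebraMap B R ((f1 : B) * ((a : B) * h)) ^ (n + 1) * r
    simp only [map_mul, map_pow, hb]
    ring

/-- A strongly étale neighbourhood of a closed orbit. -/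
theorem exists_cartesian (hA : HopfRep.IsLinearlyReductive k A) (hequiv : Equivariant k A S R)
    (hS₀i : Function.Injective (algebraMap S₀ S))
    (hS₀ : ∀ c : S, c ∈ GLin.invariants k A S ↔ ∃ r, algebraMap S₀ S r = c)
    (hR₀i : Function.Injective (algebraMap R₀ R))
    (hR₀ : ∀ c : R, c ∈ GLin.invariants k A R ↔ ∃ r, algebraMap R₀ R r = c)
    (x : R →ₐ[k] k) [(RingHom.ker x).IsPrime] [Algebra.IsEtaleAt S (RingHom.ker x)]
    (hy : ∀ w : S →ₐ[k] k, RingHom.ker (GLin.orbitHom k A (x.comp (IsScalarTower.toAlgHom k S R))) ≤ RingHom.ker w →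
      ∃ g : A →ₐ[k] k, w = GLin.actPt k g (x.comp (IsScalarTower.toAlgHom k S R)))
    (hinj : ∀ g : A →ₐ[k] k, GLin.actPt k g (x.comp (IsScalarTower.toAlgHom k S R)) =
      x.comp (IsScalarTower.toAlgHom k S R) → GLin.actPt k g x = x) :
    ∃ G : R₀, x (algebraMap R₀ R G) ≠ 0 ∧ Algebra.Etale S₀ (Localization.Away G) ∧
      (∀ z : S ⊗[S₀] R₀, Algebra.TensorProduct.productMap (IsScalarTower.toAlgHom S₀ S R)
          (IsScalarTower.toAlgHom S₀ R₀ R) z = 0 → ∃ n : ℕ, ((1 : S) ⊗ₜ[S₀] G) ^ n * z = 0) ∧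
      ∀ r : R, ∃ (n : ℕ) (z : S ⊗[S₀] R₀),
        Algebra.TensorProduct.productMap (IsScalarTower.toAlgHom S₀ S R) (IsScalarTower.toAlgHom S₀ R₀ R) z =
          algebraMap R₀ R G ^ n * r := by
  classical
  obtain ⟨F, hxF, ⟨E, _, _, _, ψ, hψ⟩, hsurj⟩ := exists_standard hA hequiv hS₀ hR₀i hR₀ x hy hinj
  set pm := Algebra.TensorProduct.productMap (IsScalarTower.toAlgHom S₀ S R) (IsScalarTower.toAlgHom S₀ R₀ R) with hpm
  let F' := algebraMap R₀ R F
  let RF := Localization.Away F'
  have huν : IsUnit (((IsScalarTower.toAlgHom S₀ R RF).comp (IsScalarTower.toAlgHom S₀ R₀ R)) F) :=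
    IsLocalization.Away.algebraMap_isUnit F'
  let ν : Localization.Away F →ₐ[S₀] RF :=
    IsLocalization.liftAlgHom (M := Submonoid.powers F) (S := Localization.Away F)
      (f := (IsScalarTower.toAlgHom S₀ R RF).comp (IsScalarTower.toAlgHom S₀ R₀ R))
      (by rintro ⟨_, n, rfl⟩; rw [map_pow]; exact huν.pow n)
  have hν : ∀ c, ν (algebraMap R₀ _ c) = algebraMap R RF (algebraMap R₀ R c) := fun c => IsLocalization.lift_eq _ c
  let Φ : S ⊗[S₀] E →ₐ[S] RF :=
    Algebra.TensorProduct.lift (Algebra.ofId S RF) (ν.comp ψ) fun _ _ => Commute.all _ _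
  have hΦ1 : ∀ s e, Φ (s ⊗ₜ e) = algebraMap S RF s * ν (ψ e) := fun s e => by simp [Φ]
  have hΦ : ∀ (s : S) (e : E) (c : R₀) (n : ℕ),
      ψ e * algebraMap R₀ _ (F ^ n) = algebraMap R₀ _ c →
      Φ (s ⊗ₜ e) * algebraMap R RF (algebraMap R₀ R F ^ n) = algebraMap R RF (algebraMap S R s * algebraMap R₀ R c) := by
    intro s e c n hc
    rw [hΦ1, mul_assoc, ← map_pow (algebraMap R₀ R), ← hν, ← map_mul ν, hc, hν,
      map_mul (algebraMap R RF), ← IsScalarTower.algebraMap_apply S R RF]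
  -- lifting elements of the comparison ring
  let toF : S ⊗[S₀] R₀ →ₐ[S₀] S ⊗[S₀] Localization.Away F :=
    Algebra.TensorProduct.map (AlgHom.id S₀ S) (IsScalarTower.toAlgHom S₀ R₀ (Localization.Away F))
  let toE : S ⊗[S₀] E →ₐ[S₀] S ⊗[S₀] Localization.Away F := Algebra.TensorProduct.map (AlgHom.id S₀ S) ψ
  have htoE : Function.Surjective toE :=
    LinearMap.lTensor_surjective S (g := ψ.toLinearMap) hψ
  have hnat : ∀ w : S ⊗[S₀] R₀, ∀ p, toE p = toF w → Φ p = algebraMap R RF (pm w) := by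
    let Θ : S ⊗[S₀] Localization.Away F →ₐ[S₀] RF :=
      Algebra.TensorProduct.productMap (IsScalarTower.toAlgHom S₀ S RF) ν
    have h1 : ∀ p, Φ p = Θ (toE p) := by
      intro p
      induction p with
      | zero => simp
      | add a b ha hb => simp only [map_add, ha, hb]
      | tmul s e => rw [hΦ1]; simp [Θ, toE]
    have h2 : ∀ w, Θ (toF w) = algebraMap R RF (pm w) := by
      intro w
      induction w with
      | zero => simp
      | add a b ha hb => simp only [map_add, ha, hb]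
      | tmul s c =>
        simp only [Θ, toF, hpm, Algebra.TensorProduct.map_tmul, Algebra.TensorProduct.productMap_apply_tmul,
          IsScalarTower.coe_toAlgHom', AlgHom.coe_id, id_eq, hν, map_mul, ← IsScalarTower.algebraMap_apply S R RF]
    intro w p hp
    rw [h1, hp, h2]
  have hΦs : Function.Surjective Φ := by
    intro y
    obtain ⟨r, ⟨_, j, rfl⟩, rfl⟩ := IsLocalization.exists_mk'_eq (Submonoid.powers F') y
    obtain ⟨n, w, hw⟩ := hsurj r
    obtain ⟨p, hp⟩ := htoE (toF w)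
    obtain ⟨e, he⟩ := hψ (IsLocalization.mk' (Localization.Away F) (1 : R₀) (⟨F ^ (n + j), n + j, rfl⟩ : Submonoid.powers F))
    refine ⟨p * ((1 : S) ⊗ₜ[S₀] e), ?_⟩
    rw [map_mul, hnat w p hp, hw, IsLocalization.eq_mk'_iff_mul_eq]
    have h1 := hΦ 1 e 1 (n + j) (by rw [he]; exact IsLocalization.mk'_spec (Localization.Away F) (1 : R₀) _)
    rw [map_one, map_one, one_mul, map_one] at h1
    simp only [map_mul, map_pow, pow_add] at h1 ⊢
    linear_combination (algebraMap R RF r) * h1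
  obtain ⟨e₁, he₁, c, N, hcN, hcx⟩ := exists_killing hA hequiv hS₀i hS₀ hR₀ x hy F hxF ψ hψ Φ hΦ hΦs
  let G : R₀ := F * c
  have hxG : x (algebraMap R₀ R G) ≠ 0 := by
    rw [map_mul, map_mul]; exact mul_ne_zero hxF hcx
  refine ⟨G, hxG, ?_, ?_, fun r => ?_⟩
  · -- étaleness
    let E1 := Localization.Away e₁
    have huF : IsUnit (algebraMap R₀ (Localization.Away G) F) :=
      isUnit_of_mul_isUnit_left (y := algebraMap R₀ (Localization.Away G) c)
        (by rw [← map_mul]; exact IsLocalization.Away.algebraMap_isUnit G)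
    have huc : IsUnit (algebraMap R₀ (Localization.Away G) c) :=
      isUnit_of_mul_isUnit_right (x := algebraMap R₀ (Localization.Away G) F)
        (by rw [← map_mul]; exact IsLocalization.Away.algebraMap_isUnit G)
    let κ : Localization.Away F →ₐ[S₀] Localization.Away G :=
      IsLocalization.liftAlgHom (M := Submonoid.powers F) (S := Localization.Away F)
        (f := IsScalarTower.toAlgHom S₀ R₀ (Localization.Away G))
        (by rintro ⟨_, n, rfl⟩; rw [map_pow]; exact huF.pow n)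
    have hκ : ∀ r, κ (algebraMap R₀ _ r) = algebraMap R₀ _ r := fun r => IsLocalization.lift_eq _ r
    have hκe : κ (ψ e₁) * algebraMap R₀ _ (F ^ N) = algebraMap R₀ _ c := by
      rw [← hκ (F ^ N), ← map_mul, hcN, hκ]
    have hue : IsUnit ((κ.comp ψ) e₁) := isUnit_of_mul_isUnit_left (hκe ▸ huc)
    let χ : E1 →ₐ[S₀] Localization.Away G :=
      IsLocalization.liftAlgHom (M := Submonoid.powers e₁) (S := E1) (f := κ.comp ψ)
        (by rintro ⟨_, n, rfl⟩; rw [map_pow]; exact hue.pow n)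
    have hχ : ∀ e, χ (algebraMap E E1 e) = κ (ψ e) := fun e => IsLocalization.lift_eq _ e
    have hkill : ∀ e : E, ψ e = 0 → e₁ * e = 0 := by
      intro e he
      have h0 : Φ ((1 : S) ⊗ₜ[S₀] e) = 0 := by rw [hΦ1, he, map_zero, mul_zero]
      have h1 := he₁ _ h0
      rw [Algebra.TensorProduct.tmul_mul_tmul, one_mul] at h1
      obtain ⟨l, hl1, -, hmemS, -⟩ := ReynoldsOp.avg_mem (V := S) hA
      choose ρ hρ using fun s : S => (hS₀ _).1 (hmemS s)
      let Lm : S →ₗ[S₀] S₀ :=
        { toFun := ρ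
          map_add' := fun a b => hS₀i (by rw [map_add, hρ, hρ, hρ, map_add])
          map_smul' := fun d a => hS₀i (by
            rw [RingHom.id_apply, smul_eq_mul, map_mul, hρ, hρ, Algebra.smul_def]
            exact Groth.Agent.RedQuot.avg_mul l _ ((hS₀ _).2 ⟨d, rfl⟩) a) }
      have h2 := congrArg ((TensorProduct.lid S₀ E).toLinearMap ∘ₗ Lm.rTensor E) h1
      have hρ1 : ρ 1 = 1 := hS₀i (by
        rw [hρ, ReynoldsOp.avg_fixed l hl1 (GLin.invariants k A S).one_mem, map_one])
      simpa [Lm, hρ1] using h2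
    have hbij : Function.Bijective χ := by
      refine ⟨(injective_iff_map_eq_zero _).2 fun z hz => ?_, fun z => ?_⟩
      · obtain ⟨e, ⟨_, i, rfl⟩, rfl⟩ := IsLocalization.exists_mk'_eq (Submonoid.powers e₁) z
        have h0 : κ (ψ e) = 0 := by
          rw [← hχ, ← IsLocalization.mk'_spec E1 e (⟨e₁ ^ i, i, rfl⟩ : Submonoid.powers e₁), map_mul, hz, zero_mul]
        obtain ⟨p, d, hd⟩ := IsLocalization.Away.surj F (ψ e)
        have h1 : algebraMap R₀ (Localization.Away G) d = 0 := by rw [← hκ, ← hd, map_mul, h0, zero_mul]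
        obtain ⟨⟨_, m, rfl⟩, hm⟩ := (IsLocalization.map_eq_zero_iff (Submonoid.powers G) _ _).1 h1
        have h2 : ψ e * algebraMap R₀ _ F ^ p * algebraMap R₀ _ G ^ m = 0 := by
          rw [hd, ← map_pow, ← map_mul, mul_comm]; simp only at hm; rw [hm, map_zero]
        have hG' : algebraMap R₀ (Localization.Away F) G = ψ e₁ * algebraMap R₀ _ F ^ (N + 1) := by
          rw [map_mul, ← hcN, map_pow]; ring
        rw [hG', mul_pow] at h2
        have h3 : ψ (e * e₁ ^ m) = 0 := by
          have hu : IsUnit (algebraMap R₀ (Localization.Away F) F ^ (p + (N + 1) * m)) :=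
            (IsLocalization.Away.algebraMap_isUnit F).pow _
          refine hu.mul_left_eq_zero.1 ?_
          rw [map_mul, map_pow, pow_add, pow_mul]
          linear_combination h2
        rw [IsLocalization.mk'_eq_zero_iff]
        refine ⟨⟨e₁ ^ (m + 1), m + 1, rfl⟩, ?_⟩
        have h4 := hkill _ h3
        show e₁ ^ (m + 1) * e = 0
        linear_combination h4
      · obtain ⟨r, ⟨_, i, rfl⟩, rfl⟩ := IsLocalization.exists_mk'_eq (Submonoid.powers G) z
        obtain ⟨e, he⟩ := hψ (IsLocalization.mk' (Localization.Away F) r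
          (⟨F ^ ((N + 1) * i), (N + 1) * i, rfl⟩ : Submonoid.powers F))
        refine ⟨IsLocalization.mk' E1 e (⟨e₁ ^ i, i, rfl⟩ : Submonoid.powers e₁), ?_⟩
        rw [IsLocalization.eq_mk'_iff_mul_eq]
        have h1 := congrArg χ (IsLocalization.mk'_spec E1 e (⟨e₁ ^ i, i, rfl⟩ : Submonoid.powers e₁))
        rw [map_mul, hχ, hχ, map_pow, map_pow] at h1
        have h2 := congrArg κ (IsLocalization.mk'_spec (Localization.Away F) r
          (⟨F ^ ((N + 1) * i), (N + 1) * i, rfl⟩ : Submonoid.powers F))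
        rw [← he, map_mul, hκ, hκ] at h2
        simp only [map_pow, map_mul, G] at h1 h2 hκe ⊢
        rw [← hκe, ← h2, ← h1]
        ring
    haveI : Algebra.Etale E E1 := Algebra.Etale.of_isLocalizationAway e₁
    haveI : Algebra.Etale S₀ E1 := Algebra.Etale.comp S₀ E E1
    exact Algebra.Etale.of_equiv (AlgEquiv.ofBijective χ hbij)
  · intro w hw
    obtain ⟨p, hp⟩ := htoE (toF w)
    have h0 : Φ p = 0 := by rw [hnat w p hp, hw, map_zero]
    have h1 : toF (((1 : S) ⊗ₜ[S₀] c) * w) = 0 := by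
      have h2 := congrArg toE (he₁ p h0)
      rw [map_mul, map_zero, hp] at h2
      rw [map_mul]
      have e : toF ((1 : S) ⊗ₜ[S₀] c) = ((1 : S) ⊗ₜ[S₀] algebraMap R₀ _ (F ^ N)) * toE ((1 : S) ⊗ₜ[S₀] e₁) := by
        simp only [toF, toE, Algebra.TensorProduct.map_tmul, Algebra.TensorProduct.tmul_mul_tmul,
          IsScalarTower.coe_toAlgHom', AlgHom.coe_id, id_eq, one_mul, mul_comm _ (ψ e₁), hcN]
      rw [e, mul_assoc, h2, mul_zero]
    let P := S ⊗[S₀] R₀
    let LP := Localization.Away ((1 : S) ⊗ₜ[S₀] F : P)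
    have huP : IsUnit (((IsScalarTower.toAlgHom S₀ P LP).comp
        (Algebra.TensorProduct.includeRight : R₀ →ₐ[S₀] P)) F) := by
      show IsUnit (algebraMap P LP ((1 : S) ⊗ₜ[S₀] F))
      exact IsLocalization.Away.algebraMap_isUnit ((1 : S) ⊗ₜ[S₀] F : P)
    let ω : Localization.Away F →ₐ[S₀] LP :=
      IsLocalization.liftAlgHom (M := Submonoid.powers F) (S := Localization.Away F)
        (f := (IsScalarTower.toAlgHom S₀ P LP).comp (Algebra.TensorProduct.includeRight : R₀ →ₐ[S₀] P))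
        (by rintro ⟨_, n, rfl⟩; rw [map_pow]; exact huP.pow n)
    have hω : ∀ r, ω (algebraMap R₀ _ r) = algebraMap P LP ((1 : S) ⊗ₜ r) := fun r => IsLocalization.lift_eq _ r
    let Ω : S ⊗[S₀] Localization.Away F →ₐ[S₀] LP :=
      Algebra.TensorProduct.productMap
        ((IsScalarTower.toAlgHom S₀ P LP).comp (Algebra.TensorProduct.includeLeft : S →ₐ[S₀] P)) ω
    have hΩ : ∀ q, Ω (toF q) = algebraMap P LP q := by
      intro q
      induction q with
      | zero => simp
      | add a b ha hb => simp only [map_add, ha, hb]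
      | tmul s r =>
        simp only [Ω, toF, Algebra.TensorProduct.map_tmul, Algebra.TensorProduct.productMap_apply_tmul,
          IsScalarTower.coe_toAlgHom', AlgHom.coe_id, id_eq, hω, AlgHom.comp_apply,
          ← map_mul]
        refine congrArg _ ?_
        show (s ⊗ₜ[S₀] (1 : R₀)) * ((1 : S) ⊗ₜ[S₀] r) = _
        rw [Algebra.TensorProduct.tmul_mul_tmul, mul_one, one_mul]
    have h3 : algebraMap P LP (((1 : S) ⊗ₜ[S₀] c) * w) = 0 := by rw [← hΩ, h1, map_zero]
    obtain ⟨⟨_, j, rfl⟩, hj⟩ := (IsLocalization.map_eq_zero_iff (Submonoid.powers ((1 : S) ⊗ₜ[S₀] F : P)) _ _).1 h3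
    simp only at hj
    refine ⟨j + 1, ?_⟩
    rw [show ((1 : S) ⊗ₜ[S₀] G : P) = ((1 : S) ⊗ₜ[S₀] F) * ((1 : S) ⊗ₜ[S₀] c) by
      rw [Algebra.TensorProduct.tmul_mul_tmul, one_mul]]
    linear_combination (((1 : S) ⊗ₜ[S₀] F : P) * ((1 : S) ⊗ₜ[S₀] c) ^ j) * hj
  · obtain ⟨n, z, hz⟩ := hsurj r
    refine ⟨n, z * ((1 : S) ⊗ₜ[S₀] (c ^ n)), ?_⟩
    rw [map_mul, hz, hpm, Algebra.TensorProduct.productMap_apply_tmul, map_one, one_mul,
      IsScalarTower.coe_toAlgHom', map_pow, map_mul]
    ring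

end Groth.Agent.EtNhd
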