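import Groth.Agent.EtNhdLib.Model
import Mathlib

/-!
# Killing the kernel of the comparison map by an invariant element
-/

set_option autoImplicit false
set_option backward.isDefEq.respectTransparency false
set_option backward.isDefEq.respectTransparency.types false

noncomputable section

universe u

open TensorProduct WithConv

namespace Groth.Agent.EtNhd

open Groth.Agent.Comodule Groth.Agent.EqZMT Groth.Agent.EtInv

/-- A surjection between local algebras which are étale over the base is injective. -/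
theorem injective_of_formallyEtale {S L L' : Type u} [CommRing S] [CommRing L] [CommRing L'] [Algebra S L]
    [Algebra S L'] [IsLocalRing L] [IsNoetherianRing L] [Nontrivial L'] [Algebra.FormallyEtale S L]
    [Algebra.FormallyEtale S L'] (f : L →ₐ[S] L') (hf : Function.Surjective f) : Function.Injective f := by
  letI := f.toRingHom.toAlgebra
  haveI : IsScalarTower S L L' := IsScalarTower.of_algebraMap_eq fun s => (f.commutes s).symm
  have hidem : IsIdempotentElem (RingHom.ker (algebraMap L L')) :=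
    (Algebra.FormallyEtale.iff_of_surjective (R := L) (S := L') hf).1 (Algebra.FormallyEtale.of_restrictScalars (R := S))
  have hle : RingHom.ker (algebraMap L L') ≤ IsLocalRing.maximalIdeal L :=
    IsLocalRing.le_maximalIdeal (RingHom.ker_ne_top _)
  have h0 : RingHom.ker (algebraMap L L') = ⊥ := by
    refine Submodule.eq_bot_of_le_smul_of_le_jacobson_bot (RingHom.ker (algebraMap L L')) _
      (IsNoetherian.noetherian _) ?_ (hle.trans (IsLocalRing.maximalIdeal_le_jacobson _))
    exact (ge_of_eq hidem)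
  exact (RingHom.injective_iff_ker_eq_bot (algebraMap L L')).2 h0

variable {k : Type u} [Field k] [IsAlgClosed k] [CharZero k] {A : Type u} [CommRing A] [HopfAlgebra k A]
  [Algebra.FiniteType k A]

/-- A linear condition on all translates passes to all contractions. -/
theorem sum_dact_eq_zero {S W : Type u} [CommRing S] [Algebra k S] [HopfRep.Comod k A S] [GLin.IsCoactAlg k A S]
    [AddCommGroup W] [Module k W] {ι : Type*} (t : Finset ι) (v : ι → S) (u : ι → (S →ₗ[k] W))
    (h : ∀ g : A →ₐ[k] k, ∑ i ∈ t, u i (transl k A g (v i)) = 0) (f : A →ₗ[k] k) :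
    ∑ i ∈ t, u i (dact f (v i)) = 0 := by
  haveI : IsReduced A := HopfGr.isReduced_charZero (k := k)
  refine (Module.forall_dual_apply_eq_zero_iff k _).1 fun φ => ?_
  let a : A := ∑ i ∈ t, lcon (φ ∘ₗ u i) (HopfRep.Comod.coact (k := k) (A := A) (v i))
  have e : ∀ (f : A →ₗ[k] k) (ψ : S →ₗ[k] k) (z : S ⊗[k] A), f (lcon ψ z) = ψ (rcon f z) := by
    intro f ψ z
    induction z with
    | zero => simp
    | add p q hp hq => simp only [map_add, hp, hq]
    | tmul p q => simp [lcon, rcon, mul_comm]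
  have ha : a = 0 := by
    by_contra h0
    obtain ⟨g, hg⟩ := PropAct.exists_pt_ne_zero (K := k) h0
    refine hg ?_
    have h1 := congrArg φ (h g)
    rw [map_sum, map_zero] at h1
    show g.toLinearMap a = 0
    rw [map_sum]
    refine Eq.trans (Finset.sum_congr rfl fun i _ => ?_) h1
    rw [e, transl_apply]
    rfl
  rw [map_sum]
  refine Eq.trans ?_ ((congrArg f ha).trans (map_zero f))
  simp only [a, map_sum, e]
  rfl

variable {S : Type u} [CommRing S] [Algebra k S] [Algebra.FiniteType k S] [HopfRep.Comod k A S]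
  [GLin.IsCoactAlg k A S]
variable {R : Type u} [CommRing R] [Algebra k R] [Algebra.FiniteType k R] [HopfRep.Comod k A R]
  [GLin.IsCoactAlg k A R]
variable [Algebra S R] [IsScalarTower k S R]
variable {S₀ : Type u} [CommRing S₀] [Algebra k S₀] [Algebra S₀ S] [IsScalarTower k S₀ S]
variable {R₀ : Type u} [CommRing R₀] [Algebra k R₀] [Algebra R₀ R] [IsScalarTower k R₀ R]
variable [Algebra S₀ R₀] [Algebra S₀ R] [IsScalarTower S₀ S R] [IsScalarTower S₀ R₀ R]
variable {E : Type u} [CommRing E] [Algebra S₀ E] [Algebra.Etale S₀ E]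

/-- The comparison map has kernel killed by an element of `E` not vanishing at the point. -/
theorem exists_killing (hA : HopfRep.IsLinearlyReductive k A) (hequiv : Equivariant k A S R)
    (hS₀i : Function.Injective (algebraMap S₀ S))
    (hS₀ : ∀ c : S, c ∈ GLin.invariants k A S ↔ ∃ r, algebraMap S₀ S r = c)
    (hR₀ : ∀ c : R, c ∈ GLin.invariants k A R ↔ ∃ r, algebraMap R₀ R r = c)
    (x : R →ₐ[k] k) [(RingHom.ker x).IsPrime] [Algebra.IsEtaleAt S (RingHom.ker x)]
    (hy : ∀ w : S →ₐ[k] k, RingHom.ker (GLin.orbitHom k A (x.comp (IsScalarTower.toAlgHom k S R))) ≤ RingHom.ker w →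
      ∃ g : A →ₐ[k] k, w = GLin.actPt k g (x.comp (IsScalarTower.toAlgHom k S R)))
    (F : R₀) (hF : x (algebraMap R₀ R F) ≠ 0) (ψ : E →ₐ[S₀] Localization.Away F) (hψ : Function.Surjective ψ)
    (Φ : S ⊗[S₀] E →ₐ[S] Localization.Away (algebraMap R₀ R F))
    (hΦ : ∀ (s : S) (e : E) (c : R₀) (n : ℕ),
      ψ e * algebraMap R₀ _ (F ^ n) = algebraMap R₀ _ c →
      Φ (s ⊗ₜ e) * algebraMap R _ (algebraMap R₀ R F ^ n) = algebraMap R _ (algebraMap S R s * algebraMap R₀ R c))
    (hΦs : Function.Surjective Φ) :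
    ∃ e₁ : E, (∀ z : S ⊗[S₀] E, Φ z = 0 → ((1 : S) ⊗ₜ[S₀] e₁) * z = 0) ∧
      ∃ (c : R₀) (n : ℕ), ψ e₁ * algebraMap R₀ _ (F ^ n) = algebraMap R₀ _ c ∧ x (algebraMap R₀ R c) ≠ 0 := by
  classical
  haveI : IsNoetherianRing S := Algebra.FiniteType.isNoetherianRing k S
  haveI : IsNoetherianRing R := Algebra.FiniteType.isNoetherianRing k R
  haveI : Algebra.FiniteType S R := Algebra.FiniteType.of_restrictScalars_finiteType k S R
  haveI : Algebra.Etale S (S ⊗[S₀] E) := inferInstance
  haveI : IsNoetherianRing (S ⊗[S₀] E) := Algebra.FiniteType.isNoetherianRing S _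
  set y := x.comp (IsScalarTower.toAlgHom k S R) with hy'
  let F' := algebraMap R₀ R F
  let RF := Localization.Away F'
  have hu : IsUnit (x.toRingHom F') := isUnit_iff_ne_zero.2 hF
  let xF : RF →+* k := IsLocalization.Away.lift F' hu
  have hxF : ∀ r, xF (algebraMap R RF r) = x r := fun r => IsLocalization.Away.lift_eq _ hu r
  have hrep : ∀ e : E, ∃ (c : R₀) (n : ℕ), ψ e * algebraMap R₀ _ (F ^ n) = algebraMap R₀ _ c := fun e => by
    obtain ⟨n, c, hc⟩ := IsLocalization.Away.surj F (ψ e)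
    exact ⟨c, n, by rw [map_pow]; exact hc⟩
  choose num den hnd using hrep
  let q : E → k := fun e => x (algebraMap R₀ R (num e)) / x F' ^ den e
  have hval : ∀ (s : S) (e : E), xF (Φ (s ⊗ₜ e)) = y s * q e := by
    intro s e
    have h0 := congrArg xF (hΦ s e (num e) (den e) (hnd e))
    rw [map_mul, hxF, hxF, map_pow, map_mul] at h0
    simp only [q]
    rw [mul_div_assoc', eq_div_iff (pow_ne_zero _ hF)]
    exact h0
  -- the twisted translations
  let tS : (A →ₐ[k] k) → (S →ₐ[S₀] S) := fun g =>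
    { toRingHom := (transl k A g).toRingHom
      commutes' := fun s => transl_invariant ((hS₀ _).2 ⟨s, rfl⟩) g }
  let T : (A →ₐ[k] k) → (S ⊗[S₀] E →ₐ[S₀] S ⊗[S₀] E) := fun g =>
    Algebra.TensorProduct.map (tS g) (AlgHom.id S₀ E)
  have hT : ∀ g s e, T g (s ⊗ₜ e) = transl k A g s ⊗ₜ e := fun g s e => rfl
  have hTT : ∀ g z, T g (T (inv g) z) = z := by
    intro g z
    induction z with
    | zero => simp
    | add a b ha hb => simp only [map_add, ha, hb]
    | tmul s e => rw [hT, hT, transl_transl_inv]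
  have huF : ∀ g : A →ₐ[k] k, IsUnit (((algebraMap R RF).comp (transl (R := R) k A g).toRingHom) F') := fun g => by
    rw [RingHom.comp_apply, AlgHom.toRingHom_eq_coe, RingHom.coe_coe, transl_invariant ((hR₀ _).2 ⟨F, rfl⟩)]
    exact IsLocalization.Away.algebraMap_isUnit F'
  let τ : (A →ₐ[k] k) → (RF →+* RF) := fun g => IsLocalization.Away.lift F' (huF g)
  have hτ : ∀ g r, τ g (algebraMap R RF r) = algebraMap R RF (transl k A g r) := fun g r =>
    IsLocalization.Away.lift_eq _ (huF g) r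
  have hτΦ : ∀ g z, τ g (Φ z) = Φ (T g z) := by
    intro g z
    induction z with
    | zero => simp
    | add a b ha hb => simp only [map_add, ha, hb]
    | tmul s e =>
      have h1 := congrArg (τ g) (hΦ s e (num e) (den e) (hnd e))
      have h2 := hΦ (transl k A g s) e (num e) (den e) (hnd e)
      rw [map_mul, hτ, hτ, map_pow, transl_invariant ((hR₀ _).2 ⟨F, rfl⟩), map_mul,
        transl_algebraMap hequiv, transl_invariant ((hR₀ _).2 ⟨num e, rfl⟩), ← h2] at h1
      rw [hT]
      have hu' : IsUnit (algebraMap R RF (F' ^ den e)) := by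
        rw [map_pow]; exact (IsLocalization.Away.algebraMap_isUnit F').pow _
      exact hu'.mul_right_cancel h1
  -- the point and its local ring
  let Q : Ideal (S ⊗[S₀] E) := (RingHom.ker xF).comap Φ
  haveI : (RingHom.ker xF).IsPrime := RingHom.ker_isPrime _
  haveI : Q.IsPrime := Ideal.IsPrime.comap _
  let Rx := Localization.AtPrime (RingHom.ker x)
  have huR : IsUnit ((IsScalarTower.toAlgHom S R Rx) F') :=
    IsLocalization.map_units Rx (⟨F', fun h => hF (RingHom.mem_ker.1 h)⟩ : (RingHom.ker x).primeCompl)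
  let j : RF →ₐ[S] Rx := IsLocalization.liftAlgHom (M := Submonoid.powers F') (S := RF)
    (f := IsScalarTower.toAlgHom S R Rx) (by rintro ⟨_, n, rfl⟩; rw [map_pow]; exact huR.pow n)
  have hj : ∀ r, j (algebraMap R RF r) = algebraMap R Rx r := fun r => IsLocalization.lift_eq _ r
  have hjunit : ∀ z : RF, xF z ≠ 0 → IsUnit (j z) := by
    intro z hz
    obtain ⟨n, c, hc⟩ := IsLocalization.Away.surj F' z
    have hcx : x c ≠ 0 := by
      rw [← hxF, ← hc, map_mul, map_pow, hxF]
      exact mul_ne_zero hz (pow_ne_zero _ hF)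
    have h1 := congrArg j hc
    rw [map_mul, map_pow, hj, hj] at h1
    exact isUnit_of_mul_isUnit_left (h1 ▸ IsLocalization.map_units Rx
      (⟨c, fun h => hcx (RingHom.mem_ker.1 h)⟩ : (RingHom.ker x).primeCompl))
  let L := Localization.AtPrime Q
  let Ψ : L →ₐ[S] Rx := IsLocalization.liftAlgHom (M := Q.primeCompl) (S := L) (f := j.comp Φ)
    fun p => hjunit _ p.2
  have hΨ : ∀ p, Ψ (algebraMap _ L p) = j (Φ p) := fun p => IsLocalization.lift_eq _ p
  have hΨs : Function.Surjective Ψ := by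
    intro z
    obtain ⟨r, ⟨s, hs⟩, rfl⟩ := IsLocalization.exists_mk'_eq (RingHom.ker x).primeCompl z
    obtain ⟨p, hp⟩ := hΦs (algebraMap R RF r)
    obtain ⟨p', hp'⟩ := hΦs (algebraMap R RF s)
    have hp'Q : p' ∈ Q.primeCompl := fun h => hs (RingHom.mem_ker.2 (by
      rw [← hxF, ← hp']; exact h))
    refine ⟨IsLocalization.mk' L p (⟨p', hp'Q⟩ : Q.primeCompl), ?_⟩
    rw [IsLocalization.eq_mk'_iff_mul_eq]
    have h1 := congrArg Ψ (IsLocalization.mk'_spec L p (⟨p', hp'Q⟩ : Q.primeCompl))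
    rw [map_mul, hΨ, hΨ, hp, hp', hj, hj] at h1
    exact h1
  haveI : Algebra.FormallyEtale (S ⊗[S₀] E) L := Algebra.FormallyEtale.of_isLocalization Q.primeCompl
  haveI : Algebra.FormallyEtale S L := Algebra.FormallyEtale.comp S (S ⊗[S₀] E) L
  haveI : Algebra.FormallyEtale S Rx := ‹Algebra.IsEtaleAt S (RingHom.ker x)›
  haveI : IsNoetherianRing L := IsLocalization.isNoetherianRing Q.primeCompl L inferInstance
  have hΨi := injective_of_formallyEtale Ψ hΨs
  -- an element killing the kernel near the point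
  obtain ⟨G, hG⟩ := (isNoetherianRing_iff_ideal_fg _).1 inferInstance (RingHom.ker Φ)
  have hone : ∀ z : S ⊗[S₀] E, Φ z = 0 → ∃ t : S ⊗[S₀] E, t ∉ Q ∧ t * z = 0 := by
    intro z hz
    have h0 : algebraMap _ L z = 0 := hΨi (by rw [hΨ, hz, map_zero, map_zero])
    obtain ⟨⟨t, ht⟩, htz⟩ := (IsLocalization.map_eq_zero_iff Q.primeCompl L z).1 h0
    exact ⟨t, ht, htz⟩
  choose! kt hkt hktz using hone
  let t := ∏ z ∈ G, kt z
  have hGΦ : ∀ z ∈ G, Φ z = 0 := fun z hz => RingHom.mem_ker.1 (hG ▸ Submodule.subset_span hz)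
  have htQ : t ∉ Q := fun h => by
    obtain ⟨z, hz, hz'⟩ := (Ideal.IsPrime.prod_mem_iff).1 h
    exact hkt z (hGΦ z hz) hz'
  have htZ : ∀ z, Φ z = 0 → t * z = 0 := by
    intro z hz
    have hz' : z ∈ RingHom.ker Φ := hz
    rw [← hG] at hz'
    induction hz' using Submodule.span_induction with
    | mem z hzG =>
      rw [show t = (∏ w ∈ G.erase z, kt w) * kt z from (Finset.prod_erase_mul G kt hzG).symm, mul_assoc,
        hktz z (hGΦ z hzG), mul_zero]
    | zero => rw [mul_zero]
    | add a b ha hb h1 h2 =>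
      rw [mul_add, h1 (RingHom.mem_ker.1 (hG ▸ ha)), h2 (RingHom.mem_ker.1 (hG ▸ hb)), add_zero]
    | smul a b hb h1 =>
      rw [smul_eq_mul, mul_left_comm, h1 (RingHom.mem_ker.1 (hG ▸ hb)), mul_zero]
  -- the annihilator meets every translate of the fibre
  let Ann : Ideal (S ⊗[S₀] E) :=
    { carrier := {p | ∀ z, Φ z = 0 → p * z = 0}
      add_mem' := fun ha hb z hz => by rw [add_mul, ha z hz, hb z hz, add_zero]
      zero_mem' := fun z _ => zero_mul z
      smul_mem' := fun a b hb z hz => by rw [smul_eq_mul, mul_assoc, hb z hz, mul_zero] }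
  have hAnnT : ∀ g p, p ∈ Ann → T g p ∈ Ann := by
    intro g p hp z hz
    have hz' : Φ (T (inv g) z) = 0 := by rw [← hτΦ, hz, map_zero]
    rw [← hTT g z, ← map_mul, hp _ hz', map_zero]
  let qset : Ideal (S ⊗[S₀] E) := Ideal.span ((fun e => (1 : S) ⊗ₜ[S₀] e) '' {e : E | q e = 0})
  letI : Algebra k E := ((algebraMap S₀ E).comp (algebraMap k S₀)).toAlgebra
  haveI : IsScalarTower k S₀ E := IsScalarTower.of_algebraMap_eq fun c => rfl
  haveI : Algebra.FiniteType k (S ⊗[S₀] E) := Algebra.FiniteType.trans (S := S) inferInstance inferInstance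
  have hk1 : ∀ e : E, q e = xF (Φ ((1 : S) ⊗ₜ[S₀] e)) := fun e => by rw [hval, map_one, one_mul]
  have hqc : ∀ c : k, q (algebraMap k E c) = c := fun c => by
    rw [hk1, IsScalarTower.algebraMap_apply k S₀ E, Algebra.algebraMap_eq_smul_one (R := S₀) (A := E),
      ← TensorProduct.smul_tmul, ← Algebra.algebraMap_eq_smul_one, hval,
      ← IsScalarTower.algebraMap_apply k S₀ S, hy', AlgHom.commutes, hk1,
      ← Algebra.TensorProduct.one_def, map_one, map_one, mul_one]
    rfl
  have htop : Ann ⊔ qset = ⊤ := by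
    by_contra hne
    obtain ⟨φ, hφ⟩ := ClosedOrbit.exists_pt (k := k) hne
    let z : S →ₐ[k] k := φ.comp ((Algebra.TensorProduct.includeLeft : S →ₐ[S] S ⊗[S₀] E).restrictScalars k)
    have hφe : ∀ e : E, φ ((1 : S) ⊗ₜ[S₀] e) = q e := by
      intro e
      have h1 : q (e - algebraMap k E (q e)) = 0 := by
        rw [hk1, TensorProduct.tmul_sub, map_sub, map_sub, ← hk1, ← hk1, hqc, sub_self]
      have h2 := RingHom.mem_ker.1 (hφ (Ideal.mem_sup_right (Ideal.subset_span ⟨_, h1, rfl⟩)))
      simp only [TensorProduct.tmul_sub, map_sub, sub_eq_zero] at h2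
      rw [h2, show (1 : S) ⊗ₜ[S₀] algebraMap k E (q e) = algebraMap k (S ⊗[S₀] E) (q e) by
        rw [IsScalarTower.algebraMap_apply k S₀ E, Algebra.algebraMap_eq_smul_one (R := S₀) (A := E),
          ← TensorProduct.smul_tmul, ← Algebra.algebraMap_eq_smul_one, ← IsScalarTower.algebraMap_apply k S₀ S]
        rfl, AlgHom.commutes]
      rfl
    have hzy : z.comp (GLin.invariants k A S).val = y.comp (GLin.invariants k A S).val := AlgHom.ext fun c => by
      obtain ⟨c₀, hc₀⟩ := (hS₀ _).1 c.2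
      have h1 : ((c : S) ⊗ₜ[S₀] (1 : E)) = (1 : S) ⊗ₜ[S₀] algebraMap S₀ E c₀ := by
        rw [← hc₀, Algebra.algebraMap_eq_smul_one, Algebra.algebraMap_eq_smul_one, TensorProduct.smul_tmul]
      have h2 := hval (c : S) 1
      rw [show q (1 : E) = 1 by rw [← map_one (algebraMap k E), hqc], mul_one] at h2
      have h3 := hval 1 (algebraMap S₀ E c₀)
      rw [map_one, one_mul, ← h1, h2] at h3
      show φ ((c : S) ⊗ₜ[S₀] (1 : E)) = y c
      rw [h1, hφe, ← h3]
    have hyz : GLin.InOrbitClosure k A z y := by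
      obtain ⟨w, hw1, hw2, hw3⟩ := ClosedOrbit.exists_closed_in_fibre (A := A) hA y
      obtain ⟨g, hg⟩ := hw3 y rfl hy
      rw [hg]
      exact ClosedOrbit.inOrbitClosure_trans (hw2 z hzy) (ClosedOrbit.inOrbitClosure_actPt g w)
    have hφt : ∀ g, φ (T g t) = 0 := fun g =>
      RingHom.mem_ker.1 (hφ (Ideal.mem_sup_left (hAnnT g t htZ)))
    obtain ⟨tt, htsum⟩ := TensorProduct.exists_finset t
    let cc : S := ∑ i ∈ tt, algebraMap k S (q i.2) * i.1
    have hφtm : ∀ (s : S) (e : E), φ (s ⊗ₜ[S₀] e) = z s * q e := fun s e => by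
      rw [show s ⊗ₜ[S₀] e = (s ⊗ₜ[S₀] (1 : E)) * ((1 : S) ⊗ₜ[S₀] e) by
        rw [Algebra.TensorProduct.tmul_mul_tmul, mul_one, one_mul], map_mul, hφe]
      rfl
    have hcc : cc ∈ RingHom.ker (GLin.orbitHom k A z) := by
      rw [mem_ker_orbit_iff]
      intro g
      have h1 := hφt g
      rw [htsum, map_sum, map_sum] at h1
      simp only [cc, map_sum, map_mul, AlgHom.commutes]
      refine Eq.trans (Finset.sum_congr rfl fun i _ => ?_) h1
      rw [hT, hφtm, mul_comm]
      rfl
    refine htQ (RingHom.mem_ker.2 ?_)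
    have h2 : y cc = 0 := RingHom.mem_ker.1 (hyz hcc)
    simp only [cc, map_sum, map_mul, AlgHom.commutes] at h2
    rw [htsum, map_sum, map_sum]
    refine Eq.trans (Finset.sum_congr rfl fun i _ => ?_) h2
    rw [hval, mul_comm]
    rfl
  -- averaging
  obtain ⟨l, hl1, hl, hmemS, -⟩ := ReynoldsOp.avg_mem (V := S) hA
  choose ρ hρ using fun s : S => (hS₀ _).1 (hmemS s)
  let Lm : S →ₗ[S₀] S₀ :=
    { toFun := ρ
      map_add' := fun a b => hS₀i (by rw [map_add, hρ, hρ, hρ, map_add])
      map_smul' := fun c a => hS₀i (by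
        rw [RingHom.id_apply, smul_eq_mul, map_mul, hρ, hρ, Algebra.smul_def]
        exact Groth.Agent.RedQuot.avg_mul l _ ((hS₀ _).2 ⟨c, rfl⟩) a) }
  let Lh : S ⊗[S₀] E →ₗ[S₀] E := (TensorProduct.lid S₀ E).toLinearMap ∘ₗ Lm.rTensor E
  have hLh : ∀ s e, Lh (s ⊗ₜ e) = ρ s • e := fun s e => by simp [Lh, Lm]
  have hρ1 : ρ 1 = 1 := hS₀i (by
    rw [hρ, ReynoldsOp.avg_fixed l hl1 (GLin.invariants k A S).one_mem, map_one])
  obtain ⟨p, hp, p', hp', hpp'⟩ := Submodule.mem_sup.1 (htop ▸ Submodule.mem_top : (1 : S ⊗[S₀] E) ∈ _)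
  have hLmul : ∀ e w, Lh (((1 : S) ⊗ₜ[S₀] e) * w) = e * Lh w := by
    intro e w
    induction w with
    | zero => simp
    | add a b ha hb => simp only [mul_add, map_add, ha, hb]
    | tmul s b =>
      rw [Algebra.TensorProduct.tmul_mul_tmul, one_mul, hLh, hLh, mul_smul_comm]
  let qh : E →+* k := (xF.comp Φ.toRingHom).comp (Algebra.TensorProduct.includeRight : E →ₐ[S₀] S ⊗[S₀] E).toRingHom
  have hqh : ∀ e, qh e = q e := fun e => (hk1 e).symm
  have hLq : ∀ w ∈ qset, ∀ r, qh (Lh (w * r)) = 0 := by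
    intro w hw
    induction hw using Submodule.span_induction with
    | mem w hw =>
      obtain ⟨e, he, rfl⟩ := hw
      intro r
      rw [hLmul, map_mul, hqh e, show q e = 0 from he, zero_mul]
    | zero => simp
    | add a b _ _ ha hb => intro r; rw [add_mul, map_add, map_add, ha, hb, add_zero]
    | smul a b _ hb => intro r; rw [smul_eq_mul, show a * b * r = b * (a * r) by ring]; exact hb _
  have hLp : qh (Lh p) = 1 := by
    have h1 : qh (Lh p) + qh (Lh p') = 1 := by
      rw [← map_add, ← map_add, hpp', Algebra.TensorProduct.one_def, hLh, hρ1, one_smul, map_one]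
    have h2 := hLq p' hp' 1
    rw [mul_one] at h2
    rwa [h2, add_zero] at h1
  refine ⟨Lh p, fun w hw => ?_, num (Lh p), den (Lh p), hnd _, fun h0 => ?_⟩
  · obtain ⟨pp, hpsum⟩ := TensorProduct.exists_finset p
    let u : S × E → (S →ₗ[k] S ⊗[S₀] E) := fun i =>
      { toFun := fun s => (s ⊗ₜ[S₀] i.2) * w
        map_add' := fun a b => by rw [TensorProduct.add_tmul, add_mul]
        map_smul' := fun c a => by
          rw [RingHom.id_apply, ← TensorProduct.smul_tmul', smul_mul_assoc] }
    have h0 := sum_dact_eq_zero (A := A) pp (fun i => i.1) u (fun g => by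
      have h1 := hAnnT g p hp w hw
      rw [hpsum, map_sum, Finset.sum_mul] at h1
      exact h1) (l ∘ₗ HopfAlgebra.antipode k (A := A))
    rw [hpsum, map_sum, TensorProduct.tmul_sum, Finset.sum_mul]
    refine Eq.trans (Finset.sum_congr rfl fun i _ => ?_) h0
    show _ = (dact _ i.1 ⊗ₜ[S₀] i.2) * w
    rw [hLh, ← TensorProduct.smul_tmul, ← Algebra.algebraMap_eq_smul_one, hρ, ReynoldsOp.avg_eq_dact]
  · rw [hqh] at hLp
    simp only [q, h0, zero_div] at hLp
    exact zero_ne_one hLp

end Groth.Agent.EtNhd
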