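import Groth.Agent.EtNhdLib.Cart
import Mathlib

/-!
# The saturated strongly étale neighbourhood
-/

set_option autoImplicit false
set_option backward.isDefEq.respectTransparency false
set_option backward.isDefEq.respectTransparency.types false

noncomputable section

universe u

open TensorProduct WithConv

namespace Groth.Agent.EtNhd

open Groth.Agent.Comodule Groth.Agent.EqZMT Groth.Agent.EtInv

section Pure

variable {S₀ S R₀ R : Type u} [CommRing S₀] [CommRing S] [CommRing R₀] [CommRing R]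
variable [Algebra S₀ S] [Algebra S R] [Algebra R₀ R] [Algebra S₀ R₀] [Algebra S₀ R]
variable [IsScalarTower S₀ S R] [IsScalarTower S₀ R₀ R]
variable (G : R₀)
  (h5 : ∀ z : S ⊗[S₀] R₀, Algebra.TensorProduct.productMap (IsScalarTower.toAlgHom S₀ S R)
      (IsScalarTower.toAlgHom S₀ R₀ R) z = 0 → ∃ n : ℕ, ((1 : S) ⊗ₜ[S₀] G) ^ n * z = 0)
  (h6 : ∀ r : R, ∃ (n : ℕ) (z : S ⊗[S₀] R₀),
    Algebra.TensorProduct.productMap (IsScalarTower.toAlgHom S₀ S R) (IsScalarTower.toAlgHom S₀ R₀ R) z =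
      algebraMap R₀ R G ^ n * r)

include h5 h6 in
/-- After inverting `G` the square of the quotient maps is cartesian. -/
theorem exists_equiv : ∃ Θ : S ⊗[S₀] Localization.Away G ≃ₐ[S] Localization.Away (algebraMap R₀ R G),
    ∀ (s : S) (c : R₀), Θ (s ⊗ₜ algebraMap R₀ _ c) = algebraMap R _ (algebraMap S R s * algebraMap R₀ R c) := by
  classical
  set pm := Algebra.TensorProduct.productMap (IsScalarTower.toAlgHom S₀ S R) (IsScalarTower.toAlgHom S₀ R₀ R) with hpm
  let RG := Localization.Away (algebraMap R₀ R G)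
  let LG := Localization.Away G
  have huν : IsUnit (((IsScalarTower.toAlgHom S₀ R RG).comp (IsScalarTower.toAlgHom S₀ R₀ R)) G) := by
    show IsUnit (algebraMap R RG (algebraMap R₀ R G))
    exact IsLocalization.Away.algebraMap_isUnit (algebraMap R₀ R G)
  let ν : LG →ₐ[S₀] RG :=
    IsLocalization.liftAlgHom (M := Submonoid.powers G) (S := LG)
      (f := (IsScalarTower.toAlgHom S₀ R RG).comp (IsScalarTower.toAlgHom S₀ R₀ R))
      (by rintro ⟨_, n, rfl⟩; rw [map_pow]; exact huν.pow n)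
  have hν : ∀ c, ν (algebraMap R₀ _ c) = algebraMap R RG (algebraMap R₀ R c) := fun c => IsLocalization.lift_eq _ c
  let Θ : S ⊗[S₀] LG →ₐ[S] RG := Algebra.TensorProduct.lift (Algebra.ofId S RG) ν fun _ _ => Commute.all _ _
  have hΘ : ∀ (s : S) (c : R₀), Θ (s ⊗ₜ algebraMap R₀ LG c) = algebraMap R RG (algebraMap S R s * algebraMap R₀ R c) :=
    fun s c => by simp [Θ, hν, ← IsScalarTower.algebraMap_apply S R RG]
  let toF : S ⊗[S₀] R₀ →ₐ[S₀] S ⊗[S₀] LG :=
    Algebra.TensorProduct.map (AlgHom.id S₀ S) (IsScalarTower.toAlgHom S₀ R₀ LG)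
  have hnat : ∀ w, Θ (toF w) = algebraMap R RG (pm w) := by
    intro w
    induction w with
    | zero => simp
    | add a b ha hb => simp only [map_add, ha, hb]
    | tmul s c =>
      rw [show toF (s ⊗ₜ c) = s ⊗ₜ algebraMap R₀ LG c from rfl, hΘ, hpm, Algebra.TensorProduct.productMap_apply_tmul]
      rfl
  have hrep : ∀ p : S ⊗[S₀] LG, ∃ (n : ℕ) (w : S ⊗[S₀] R₀), p * toF ((1 : S) ⊗ₜ (G ^ n)) = toF w := by
    intro p
    induction p with
    | zero => exact ⟨0, 0, by simp⟩
    | tmul s l =>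
      obtain ⟨n, c, hc⟩ := IsLocalization.Away.surj G l
      refine ⟨n, s ⊗ₜ c, ?_⟩
      simp only [toF, Algebra.TensorProduct.map_tmul, AlgHom.coe_id, id_eq, IsScalarTower.coe_toAlgHom',
        Algebra.TensorProduct.tmul_mul_tmul, mul_one, map_pow]
      rw [hc]
    | add a b ha hb =>
      obtain ⟨i, u, hu⟩ := ha
      obtain ⟨j, v, hv⟩ := hb
      refine ⟨i + j, u * ((1 : S) ⊗ₜ (G ^ j)) + v * ((1 : S) ⊗ₜ (G ^ i)), ?_⟩
      rw [map_add, map_mul, map_mul, ← hu, ← hv,
        show ((1 : S) ⊗ₜ[S₀] (G ^ (i + j))) = ((1 : S) ⊗ₜ[S₀] (G ^ i)) * ((1 : S) ⊗ₜ[S₀] (G ^ j)) by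
          rw [Algebra.TensorProduct.tmul_mul_tmul, one_mul, pow_add], map_mul]
      ring
  have hbij : Function.Bijective Θ := by
    refine ⟨(injective_iff_map_eq_zero _).2 fun p hp => ?_, fun y => ?_⟩
    · obtain ⟨n, w, hw⟩ := hrep p
      have h0 : algebraMap R RG (pm w) = 0 := by rw [← hnat, ← hw, map_mul, hp, zero_mul]
      obtain ⟨⟨_, j, rfl⟩, hj⟩ := (IsLocalization.map_eq_zero_iff (Submonoid.powers (algebraMap R₀ R G)) _ _).1 h0
      simp only at hj
      obtain ⟨m, hm⟩ := h5 (((1 : S) ⊗ₜ[S₀] (G ^ j)) * w) (by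
        show pm _ = 0
        rw [map_mul]
        simp only [hpm, Algebra.TensorProduct.productMap_apply_tmul, map_one, one_mul,
          IsScalarTower.coe_toAlgHom', map_pow] at hj ⊢
        exact hj)
      have h1 := congrArg toF hm
      rw [map_zero, map_mul, map_mul, map_pow, ← hw] at h1
      have hu : ∀ i : ℕ, IsUnit (toF ((1 : S) ⊗ₜ[S₀] (G ^ i))) := fun i =>
        IsUnit.map (Algebra.TensorProduct.includeRight : LG →ₐ[S₀] S ⊗[S₀] LG)
          (show IsUnit (algebraMap R₀ LG (G ^ i)) by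
            rw [map_pow]; exact (IsLocalization.Away.algebraMap_isUnit G).pow i)
      have hu1 : IsUnit (toF ((1 : S) ⊗ₜ[S₀] G)) := by simpa using hu 1
      refine (hu n).mul_left_eq_zero.1 ((hu j).mul_right_eq_zero.1 ((hu1.pow m).mul_right_eq_zero.1 h1))
    · obtain ⟨r, ⟨_, i, rfl⟩, rfl⟩ := IsLocalization.exists_mk'_eq (Submonoid.powers (algebraMap R₀ R G)) y
      obtain ⟨n, w, hw⟩ := h6 r
      refine ⟨toF w * ((1 : S) ⊗ₜ[S₀] IsLocalization.mk' LG (1 : R₀) (⟨G ^ (n + i), n + i, rfl⟩ : Submonoid.powers G)), ?_⟩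
      rw [map_mul, hnat, hw, IsLocalization.eq_mk'_iff_mul_eq]
      have h1 : Θ ((1 : S) ⊗ₜ[S₀] IsLocalization.mk' LG (1 : R₀) (⟨G ^ (n + i), n + i, rfl⟩ : Submonoid.powers G)) *
          algebraMap R RG (algebraMap R₀ R G ^ (n + i)) = 1 := by
        have h2 := congrArg ν (IsLocalization.mk'_spec LG (1 : R₀) (⟨G ^ (n + i), n + i, rfl⟩ : Submonoid.powers G))
        rw [map_mul, hν, hν, map_one, map_one] at h2
        simp only [Θ, Algebra.TensorProduct.lift_tmul, map_one, one_mul, map_pow] at h2 ⊢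
        exact h2
      simp only [map_mul, map_pow, pow_add] at h1 ⊢
      linear_combination (algebraMap R RG r) * h1
  exact ⟨AlgEquiv.ofBijective Θ hbij, hΘ⟩

include h5 h6 in
/-- Compatible points of the two factors give a point of the neighbourhood. -/
theorem exists_hom (K : Type u) [CommRing K] [Nontrivial K] [Algebra S₀ K] (a : S →ₐ[S₀] K) (b : R₀ →ₐ[S₀] K)
    (hb : IsUnit (b G)) : ∃ χ : R →+* K, (∀ s, χ (algebraMap S R s) = a s) ∧ ∀ c, χ (algebraMap R₀ R c) = b c := by
  obtain ⟨Θ, hΘ⟩ := exists_equiv G h5 h6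
  let bG : Localization.Away G →ₐ[S₀] K :=
    IsLocalization.liftAlgHom (M := Submonoid.powers G) (S := Localization.Away G) (f := b)
      (by rintro ⟨_, n, rfl⟩; rw [map_pow]; exact hb.pow n)
  have hbG : ∀ c, bG (algebraMap R₀ _ c) = b c := fun c => IsLocalization.lift_eq _ c
  let L := Algebra.TensorProduct.productMap a bG
  refine ⟨(L.toRingHom.comp Θ.symm.toAlgHom.toRingHom).comp (algebraMap R (Localization.Away (algebraMap R₀ R G))),
    fun s => ?_, fun c => ?_⟩
  · have h1 : Θ.symm (algebraMap R (Localization.Away (algebraMap R₀ R G)) (algebraMap S R s)) = s ⊗ₜ (1 : Localization.Away G) := by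
      rw [Θ.symm_apply_eq, ← map_one (algebraMap R₀ (Localization.Away G)), hΘ, map_one, mul_one]
    show L (Θ.symm _) = _
    rw [h1, Algebra.TensorProduct.productMap_apply_tmul, map_one, mul_one]
  · have h1 : Θ.symm (algebraMap R (Localization.Away (algebraMap R₀ R G)) (algebraMap R₀ R c)) =
        (1 : S) ⊗ₜ algebraMap R₀ (Localization.Away G) c := by
      rw [Θ.symm_apply_eq, hΘ, map_one, one_mul]
    show L (Θ.symm _) = _
    rw [h1, Algebra.TensorProduct.productMap_apply_tmul, map_one, one_mul, hbG]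

omit [Algebra S₀ R] [IsScalarTower S₀ S R] [IsScalarTower S₀ R₀ R] [Algebra S R] [Algebra S₀ S] [Algebra R₀ R] in
/-- Primes away from an element with étale localisation are étale points. -/
theorem isEtaleAt_of_away {M : Type u} [CommRing M] [Algebra S₀ M] (g : M) [Algebra.Etale S₀ (Localization.Away g)]
    (q : Ideal M) [q.IsPrime] (hq : g ∉ q) : Algebra.IsEtaleAt S₀ q := by
  have hu : IsUnit ((IsScalarTower.toAlgHom M M (Localization.AtPrime q)) g) :=
    IsLocalization.map_units (Localization.AtPrime q) (⟨g, hq⟩ : q.primeCompl)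
  let f : Localization.Away g →ₐ[M] Localization.AtPrime q :=
    IsLocalization.liftAlgHom (M := Submonoid.powers g) (S := Localization.Away g)
      (f := IsScalarTower.toAlgHom M M (Localization.AtPrime q))
      (by rintro ⟨_, n, rfl⟩; rw [map_pow]; exact hu.pow n)
  letI := f.toRingHom.toAlgebra
  haveI : IsScalarTower M (Localization.Away g) (Localization.AtPrime q) :=
    IsScalarTower.of_algebraMap_eq' f.comp_algebraMap.symm
  haveI : IsScalarTower S₀ (Localization.Away g) (Localization.AtPrime q) := .to₁₃₄ _ M _ _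
  haveI : IsLocalization (q.primeCompl.map (algebraMap M (Localization.Away g))) (Localization.AtPrime q) :=
    IsLocalization.isLocalization_of_submonoid_le _ _ _ _ (Submonoid.powers_le.mpr hq)
  haveI : Algebra.FormallyEtale (Localization.Away g) (Localization.AtPrime q) :=
    Algebra.FormallyEtale.of_isLocalization (q.primeCompl.map (algebraMap M (Localization.Away g)))
  exact Algebra.FormallyEtale.comp S₀ (Localization.Away g) (Localization.AtPrime q)

end Pure

variable {k : Type u} [Field k] [IsAlgClosed k] [CharZero k] {A : Type u} [CommRing A] [IsDomain A]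
  [HopfAlgebra k A] [Algebra.FiniteType k A]
variable {S : Type u} [CommRing S] [Algebra k S] [Algebra.FiniteType k S] [HopfRep.Comod k A S]
  [GLin.IsCoactAlg k A S]
variable {R : Type u} [CommRing R] [Algebra k R] [Algebra.FiniteType k R] [HopfRep.Comod k A R]
  [GLin.IsCoactAlg k A R]
variable [Algebra S R] [IsScalarTower k S R]
variable {S₀ : Type u} [CommRing S₀] [Algebra k S₀] [Algebra S₀ S] [IsScalarTower k S₀ S]
variable {R₀ : Type u} [CommRing R₀] [Algebra k R₀] [Algebra R₀ R] [IsScalarTower k R₀ R]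
variable [Algebra S₀ R₀] [Algebra S₀ R] [IsScalarTower S₀ S R] [IsScalarTower S₀ R₀ R]

/-- Closed orbits in the neighbourhood map to closed orbits. -/
theorem isClosedOrbit_image (hequiv : Equivariant k A S R)
    (hS₀ : ∀ c : S, c ∈ GLin.invariants k A S ↔ ∃ r, algebraMap S₀ S r = c)
    (hR₀ : ∀ c : R, c ∈ GLin.invariants k A R ↔ ∃ r, algebraMap R₀ R r = c)
    (G : R₀)
    (h5 : ∀ z : S ⊗[S₀] R₀, Algebra.TensorProduct.productMap (IsScalarTower.toAlgHom S₀ S R)
        (IsScalarTower.toAlgHom S₀ R₀ R) z = 0 → ∃ n : ℕ, ((1 : S) ⊗ₜ[S₀] G) ^ n * z = 0)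
    (h6 : ∀ r : R, ∃ (n : ℕ) (z : S ⊗[S₀] R₀),
      Algebra.TensorProduct.productMap (IsScalarTower.toAlgHom S₀ S R) (IsScalarTower.toAlgHom S₀ R₀ R) z =
        algebraMap R₀ R G ^ n * r)
    (x' : R →ₐ[k] k) (hG : x' (algebraMap R₀ R G) ≠ 0) (hx' : GLin.IsClosedOrbit k A x') :
    GLin.IsClosedOrbit k A (x'.comp (IsScalarTower.toAlgHom k S R)) := by
  classical
  set z := x'.comp (IsScalarTower.toAlgHom k S R) with hz
  have horb : ∀ s : S, GLin.orbitHom k A x' (algebraMap S R s) = GLin.orbitHom k A z s := by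
    intro s
    simp only [GLin.orbitHom, AlgHom.comp_apply, GLin.coactAlgHom_apply]
    rw [hequiv s]
    induction HopfRep.Comod.coact (k := k) (A := A) s with
    | zero => simp
    | add p q hp hq => simp only [map_add, hp, hq]
    | tmul a b => simp [hz]
  suffices h : Set.range (PrimeSpectrum.comap (GLin.orbitHom k A z).toRingHom) =
      PrimeSpectrum.zeroLocus (RingHom.ker (GLin.orbitHom k A z) : Set S) by
    show IsClosed _
    rw [h]
    exact PrimeSpectrum.isClosed_zeroLocus _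
  refine Set.Subset.antisymm ?_ fun P hP => ?_
  · rintro _ ⟨p, rfl⟩ s hs
    show GLin.orbitHom k A z s ∈ p.asIdeal
    rw [RingHom.mem_ker.1 hs]
    exact p.asIdeal.zero_mem
  have hP' : RingHom.ker (GLin.orbitHom k A z) ≤ P.asIdeal := hP
  let K := S ⧸ P.asIdeal
  haveI : Nontrivial K := Ideal.Quotient.nontrivial_iff.2 P.isPrime.ne_top
  have hconst : ∀ s₀ : S₀, algebraMap S K (algebraMap S₀ S s₀) = algebraMap k K (z (algebraMap S₀ S s₀)) := by
    intro s₀
    have hmem : algebraMap S₀ S s₀ - algebraMap k S (z (algebraMap S₀ S s₀)) ∈ RingHom.ker (GLin.orbitHom k A z) := by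
      rw [mem_ker_orbit_iff]
      intro g
      rw [map_sub, transl_invariant ((hS₀ _).2 ⟨s₀, rfl⟩), AlgHom.commutes, map_sub, AlgHom.commutes]
      simp
    rw [IsScalarTower.algebraMap_apply k S K]
    exact (Ideal.Quotient.eq).2 (hP' hmem)
  let b : R₀ →ₐ[S₀] K :=
    { toRingHom := (algebraMap k K).comp (x'.toRingHom.comp (algebraMap R₀ R))
      commutes' := fun s₀ => by
        show algebraMap k K (x' (algebraMap R₀ R (algebraMap S₀ R₀ s₀))) = algebraMap S₀ K s₀
        rw [← IsScalarTower.algebraMap_apply S₀ R₀ R, IsScalarTower.algebraMap_apply S₀ S R,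
          IsScalarTower.algebraMap_apply S₀ S K, hconst]
        rfl }
  have hb : ∀ c, b c = algebraMap k K (x' (algebraMap R₀ R c)) := fun c => rfl
  obtain ⟨χ, hχS, hχR⟩ := exists_hom G h5 h6 K (IsScalarTower.toAlgHom S₀ S K) b
    ((isUnit_iff_ne_zero.2 hG).map (algebraMap k K))
  haveI : (RingHom.ker χ).IsPrime := by
    haveI : IsDomain K := (Ideal.Quotient.isDomain_iff_prime _).2 P.isPrime
    exact RingHom.ker_isPrime _
  have hQ : RingHom.ker (GLin.orbitHom k A x') ≤ RingHom.ker χ := by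
    intro c hc
    obtain ⟨n, w, hw⟩ := h6 c
    obtain ⟨T, rfl⟩ := TensorProduct.exists_finset w
    have hcc : (∑ i ∈ T, algebraMap k S (x' (algebraMap R₀ R i.2)) * i.1) ∈ RingHom.ker (GLin.orbitHom k A z) := by
      rw [mem_ker_orbit_iff]
      intro g
      have h1 : x' (transl k A g (algebraMap R₀ R G ^ n * c)) = 0 :=
        (mem_ker_orbit_iff x' _).1 (Ideal.mul_mem_left _ _ hc) g
      rw [← hw] at h1
      simp only [map_sum, Algebra.TensorProduct.productMap_apply_tmul, IsScalarTower.coe_toAlgHom', map_mul,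
        transl_algebraMap hequiv, transl_invariant ((hR₀ _).2 ⟨_, rfl⟩)] at h1
      simp only [map_sum, map_mul, AlgHom.commutes]
      refine Eq.trans (Finset.sum_congr rfl fun i _ => ?_) h1
      rw [mul_comm]
      rfl
    have h0 : algebraMap S K (∑ i ∈ T, algebraMap k S (x' (algebraMap R₀ R i.2)) * i.1) = 0 :=
      Ideal.Quotient.eq_zero_iff_mem.2 (hP' hcc)
    have h2 : χ (algebraMap R₀ R G ^ n * c) = 0 := by
      rw [← hw, map_sum, map_sum]
      rw [map_sum] at h0
      refine Eq.trans (Finset.sum_congr rfl fun i _ => ?_) h0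
      rw [Algebra.TensorProduct.productMap_apply_tmul]
      simp only [IsScalarTower.coe_toAlgHom', map_mul, hχS, hχR, hb, ← IsScalarTower.algebraMap_apply k S K]
      ring
    rw [RingHom.mem_ker]
    rw [map_mul, map_pow, hχR, hb] at h2
    exact (((isUnit_iff_ne_zero.2 hG).map (algebraMap k K)).pow n).mul_right_eq_zero.1 h2
  have hQr : (⟨RingHom.ker χ, inferInstance⟩ : PrimeSpectrum R) ∈
      Set.range (PrimeSpectrum.comap (GLin.orbitHom k A x').toRingHom) := by
    rw [← hx'.closure_eq, PrimeSpectrum.closure_range_comap]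
    exact fun c hc => hQ hc
  obtain ⟨p, hp⟩ := hQr
  refine ⟨p, PrimeSpectrum.ext (Ideal.ext fun s => ?_)⟩
  show GLin.orbitHom k A z s ∈ p.asIdeal ↔ s ∈ P.asIdeal
  rw [← horb]
  have h3 : GLin.orbitHom k A x' (algebraMap S R s) ∈ p.asIdeal ↔ χ (algebraMap S R s) = 0 := by
    have h4 := congrArg PrimeSpectrum.asIdeal hp
    exact (SetLike.ext_iff.1 h4 (algebraMap S R s))
  rw [h3, hχS]
  exact Ideal.Quotient.eq_zero_iff_mem

/-- Luna's strongly étale saturated neighbourhood. -/
theorem exists_saturated (hA : HopfRep.IsLinearlyReductive k A) (hequiv : Equivariant k A S R)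
    (hS₀i : Function.Injective (algebraMap S₀ S))
    (hS₀ : ∀ c : S, c ∈ GLin.invariants k A S ↔ ∃ r, algebraMap S₀ S r = c)
    (hR₀i : Function.Injective (algebraMap R₀ R))
    (hR₀ : ∀ c : R, c ∈ GLin.invariants k A R ↔ ∃ r, algebraMap R₀ R r = c)
    (x : R →ₐ[k] k) [(RingHom.ker x).IsPrime] [Algebra.IsEtaleAt S (RingHom.ker x)]
    (hy : GLin.IsClosedOrbit k A (x.comp (IsScalarTower.toAlgHom k S R)))
    (hinj : ∀ g : A →ₐ[k] k, GLin.actPt k g (x.comp (IsScalarTower.toAlgHom k S R)) =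
      x.comp (IsScalarTower.toAlgHom k S R) → GLin.actPt k g x = x) :
    ∃ (f : R₀) (g : S₀), x (algebraMap R₀ R (f * algebraMap S₀ R₀ g)) ≠ 0 ∧
      (∀ P : Ideal S, P.IsPrime → algebraMap S₀ S g ∉ P →
        ∃ Q : Ideal R, Q.IsPrime ∧ algebraMap R₀ R (f * algebraMap S₀ R₀ g) ∉ Q ∧ Q.comap (algebraMap S R) = P) ∧
      (∀ (Q : Ideal R) [Q.IsPrime], algebraMap R₀ R (f * algebraMap S₀ R₀ g) ∉ Q → Algebra.IsEtaleAt S Q) ∧
      (∀ x' : R →ₐ[k] k, x' (algebraMap R₀ R (f * algebraMap S₀ R₀ g)) ≠ 0 → GLin.IsClosedOrbit k A x' →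
        GLin.IsClosedOrbit k A (x'.comp (IsScalarTower.toAlgHom k S R))) ∧
      (∀ (q : Ideal R₀) [q.IsPrime], f * algebraMap S₀ R₀ g ∉ q → Algebra.IsEtaleAt S₀ q) ∧
      (∀ z : S ⊗[S₀] R₀, Algebra.TensorProduct.productMap (IsScalarTower.toAlgHom S₀ S R) (IsScalarTower.toAlgHom S₀ R₀ R) z = 0 →
        ∃ n : ℕ, ((1 : S) ⊗ₜ[S₀] (f * algebraMap S₀ R₀ g)) ^ n * z = 0) ∧
      (∀ r : R, ∃ (n : ℕ) (z : S ⊗[S₀] R₀),
        Algebra.TensorProduct.productMap (IsScalarTower.toAlgHom S₀ S R) (IsScalarTower.toAlgHom S₀ R₀ R) z =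
          algebraMap R₀ R (f * algebraMap S₀ R₀ g) ^ n * r) := by
  classical
  obtain ⟨G, hxG, hEt, h5, h6⟩ := exists_cartesian hA hequiv hS₀i hS₀ hR₀i hR₀ x
    (fun w hw => ClosedOrbit.exists_actPt_eq_of_isClosedOrbit hy hw) hinj
  haveI := hEt
  haveI : Module.Flat S₀ (Localization.Away G) := inferInstance
  have hopen : IsOpenMap (PrimeSpectrum.comap (algebraMap S₀ (Localization.Away G))) :=
    PrimeSpectrum.isOpenMap_comap_of_hasGoingDown_of_finitePresentation
  let xG : Localization.Away G →+* k :=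
    IsLocalization.Away.lift G (g := (x : R →+* k).comp (algebraMap R₀ R)) (isUnit_iff_ne_zero.2 hxG)
  haveI : (RingHom.ker xG).IsPrime := RingHom.ker_isPrime _
  let q₀ : PrimeSpectrum (Localization.Away G) := ⟨RingHom.ker xG, inferInstance⟩
  obtain ⟨_, ⟨g, rfl⟩, hg1, hg2⟩ := PrimeSpectrum.isBasis_basic_opens.isOpen_iff.1 hopen.isOpen_range
    _ ⟨q₀, rfl⟩ |> fun ⟨U, hU, h1, h2⟩ => (show ∃ V ∈ Set.range fun g : S₀ =>
      (PrimeSpectrum.basicOpen g : Set (PrimeSpectrum S₀)), (PrimeSpectrum.comap _ q₀ ∈ V) ∧ V ⊆ _ from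
        ⟨U, by obtain ⟨o, ⟨g, rfl⟩, rfl⟩ := hU; exact ⟨g, rfl⟩, h1, h2⟩)
  have hxg : x (algebraMap R₀ R (algebraMap S₀ R₀ g)) ≠ 0 := by
    intro h0
    refine hg1 ?_
    show xG (algebraMap S₀ (Localization.Away G) g) = 0
    rw [IsScalarTower.algebraMap_apply S₀ R₀ (Localization.Away G)]
    show IsLocalization.Away.lift G _ _ = 0
    rw [IsLocalization.Away.lift_eq]
    exact h0
  let H := G * algebraMap S₀ R₀ g
  have hH : ∀ (n : ℕ), ((1 : S) ⊗ₜ[S₀] H) ^ n =
      ((1 : S) ⊗ₜ[S₀] G) ^ n * ((1 : S) ⊗ₜ[S₀] algebraMap S₀ R₀ g) ^ n := fun n => by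
    rw [← mul_pow, Algebra.TensorProduct.tmul_mul_tmul, one_mul]
  refine ⟨G, g, by rw [map_mul, map_mul]; exact mul_ne_zero hxG hxg, fun P hP hgP => ?_, fun Q hQp hQ => ?_,
    fun x' hx'H hx' => ?_, fun q hqp hq => ?_, fun z hz => ?_, fun r => ?_⟩
  · haveI := hP
    let p₀ := P.under S₀
    obtain ⟨⟨q₁, hq₁⟩, hq₁p⟩ := hg2 (show (⟨p₀, inferInstance⟩ : PrimeSpectrum S₀) ∈ _ from hgP)
    haveI := hq₁
    haveI : P.LiesOver p₀ := ⟨rfl⟩
    haveI : q₁.LiesOver p₀ := ⟨(congrArg PrimeSpectrum.asIdeal hq₁p).symm⟩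
    letI := Localization.AtPrime.algebraOfLiesOver p₀ P
    letI := Localization.AtPrime.algebraOfLiesOver p₀ q₁
    let K₁ := p₀.ResidueField
    obtain ⟨M, hM⟩ := Ideal.exists_maximal (P.ResidueField ⊗[K₁] q₁.ResidueField)
    let Ω := (P.ResidueField ⊗[K₁] q₁.ResidueField) ⧸ M
    haveI : Nontrivial Ω := Ideal.Quotient.nontrivial_iff.2 hM.ne_top
    letI : Field Ω := Ideal.Quotient.field M
    letI : Algebra S₀ Ω := ((algebraMap K₁ Ω).comp (algebraMap S₀ K₁)).toAlgebra
    let a : S →ₐ[S₀] Ω :=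
      { toRingHom := ((Ideal.Quotient.mk M).comp
          (Algebra.TensorProduct.includeLeftRingHom : P.ResidueField →+* _)).comp (algebraMap S P.ResidueField)
        commutes' := fun s => by
          show Ideal.Quotient.mk M ((algebraMap S P.ResidueField (algebraMap S₀ S s)) ⊗ₜ[K₁] 1) = _
          rw [← IsScalarTower.algebraMap_apply S₀ S P.ResidueField,
            IsScalarTower.algebraMap_apply S₀ K₁ P.ResidueField]
          rfl }
    let b : R₀ →ₐ[S₀] Ω :=
      { toRingHom := (((Ideal.Quotient.mk M).comp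
          (Algebra.TensorProduct.includeRight : q₁.ResidueField →ₐ[K₁] _).toRingHom).comp
            (algebraMap (Localization.Away G) q₁.ResidueField)).comp (algebraMap R₀ (Localization.Away G))
        commutes' := fun s => by
          show Ideal.Quotient.mk M ((1 : P.ResidueField) ⊗ₜ[K₁] algebraMap (Localization.Away G) q₁.ResidueField
            (algebraMap R₀ (Localization.Away G) (algebraMap S₀ R₀ s))) = _
          rw [← IsScalarTower.algebraMap_apply S₀ R₀ (Localization.Away G),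
            ← IsScalarTower.algebraMap_apply S₀ (Localization.Away G) q₁.ResidueField,
            IsScalarTower.algebraMap_apply S₀ K₁ q₁.ResidueField, Algebra.algebraMap_eq_smul_one,
            ← TensorProduct.smul_tmul, ← Algebra.algebraMap_eq_smul_one]
          rfl }
    have hbG : IsUnit (b G) := (IsLocalization.Away.algebraMap_isUnit G).map
      (((Ideal.Quotient.mk M).comp (Algebra.TensorProduct.includeRight : q₁.ResidueField →ₐ[K₁] _).toRingHom).comp
        (algebraMap (Localization.Away G) q₁.ResidueField))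
    obtain ⟨χ, hχS, hχR⟩ := exists_hom G h5 h6 Ω a b hbG
    have haP : ∀ s : S, a s = 0 ↔ s ∈ P := fun s => by
      show ((Ideal.Quotient.mk M).comp (Algebra.TensorProduct.includeLeftRingHom :
        P.ResidueField →+* _)) (algebraMap S P.ResidueField s) = 0 ↔ _
      rw [map_eq_zero_iff _ (RingHom.injective _), Ideal.algebraMap_residueField_eq_zero]
    refine ⟨RingHom.ker χ, RingHom.ker_isPrime _, ?_, Ideal.ext fun s => ?_⟩
    · rw [RingHom.mem_ker, map_mul, map_mul, hχR, ← IsScalarTower.algebraMap_apply S₀ R₀ R,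
        IsScalarTower.algebraMap_apply S₀ S R, hχS]
      exact mul_ne_zero hbG.ne_zero fun h => hgP ((haP _).1 h)
    · rw [Ideal.mem_comap, RingHom.mem_ker, hχS]
      exact haP s
  · obtain ⟨Θ, -⟩ := exists_equiv G h5 h6
    haveI : Algebra.Etale S (Localization.Away (algebraMap R₀ R G)) := Algebra.Etale.of_equiv Θ
    exact isEtaleAt_of_away (algebraMap R₀ R G) Q fun h => hQ (by rw [map_mul]; exact Q.mul_mem_right _ h)
  · exact isClosedOrbit_image hequiv hS₀ hR₀ G h5 h6 x'
      (fun h => hx'H (by rw [map_mul, map_mul, h, zero_mul])) hx'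
  · exact isEtaleAt_of_away G q fun h => hq (q.mul_mem_right _ h)
  · obtain ⟨n, hn⟩ := h5 z hz
    refine ⟨n, ?_⟩
    rw [hH, mul_right_comm, hn, zero_mul]
  · obtain ⟨n, z, hz⟩ := h6 r
    refine ⟨n, z * ((1 : S) ⊗ₜ[S₀] algebraMap S₀ R₀ g) ^ n, ?_⟩
    rw [map_mul, map_pow, hz, Algebra.TensorProduct.productMap_apply_tmul, map_one, one_mul,
      IsScalarTower.coe_toAlgHom', map_mul, mul_pow]
    ring

end Groth.Agent.EtNhd
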