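import Groth.Agent.EtNhdLib.Nbhd
import Mathlib

/-!
# The finite model: generation by invariants near a closed orbit
-/

set_option autoImplicit false
set_option backward.isDefEq.respectTransparency false
set_option backward.isDefEq.respectTransparency.types false

noncomputable section

universe u

open TensorProduct WithConv

namespace Groth.Agent.EtNhd

open Groth.Agent.Comodule Groth.Agent.EqZMT Groth.Agent.EtInv

variable {k : Type u} [Field k] {A : Type u} [CommRing A] [HopfAlgebra k A]
variable {S : Type u} [CommRing S] [Algebra k S] [HopfRep.Comod k A S] [GLin.IsCoactAlg k A S]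
variable {B : Type u} [CommRing B] [Algebra k B] [HopfRep.Comod k A B] [GLin.IsCoactAlg k A B]
variable [Algebra S B] [IsScalarTower k S B]

theorem map_invariant (hequiv : Equivariant k A S B) {s : S} (hs : s ∈ GLin.invariants k A S) :
    algebraMap S B s ∈ GLin.invariants k A B := by
  rw [GLin.mem_invariants_iff, hequiv, (GLin.mem_invariants_iff k A S s).1 hs]
  simp

theorem invariant_of_map (hequiv : Equivariant k A S B) (hinj : Function.Injective (algebraMap S B)) {s : S}
    (hs : algebraMap S B s ∈ GLin.invariants k A B) : s ∈ GLin.invariants k A S := by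
  rw [GLin.mem_invariants_iff]
  rw [GLin.mem_invariants_iff, hequiv] at hs
  have hi : Function.Injective (LinearMap.rTensor A (IsScalarTower.toAlgHom k S B).toLinearMap) :=
    Module.Flat.rTensor_preserves_injective_linearMap _ hinj
  refine hi ?_
  have e : ∀ z : S ⊗[k] A, LinearMap.rTensor A (IsScalarTower.toAlgHom k S B).toLinearMap z =
      Algebra.TensorProduct.map (IsScalarTower.toAlgHom k S B) (AlgHom.id k A) z := by
    intro z
    induction z with
    | zero => simp
    | add p q hp hq => simp only [map_add, hp, hq]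
    | tmul p q => simp
  rw [e, e, hs]
  simp

/-- Étaleness at a point only depends on a neighbourhood. -/
theorem isEtaleAt_of_model {R : Type u} [CommRing R] [Algebra S R] [Algebra B R] [IsScalarTower S B R]
    (hinj : Function.Injective (algebraMap B R)) (P : Ideal R) [P.IsPrime] [Algebra.IsEtaleAt S P]
    (h : B) (hh : algebraMap B R h ∉ P)
    (hsat : ∀ r : R, ∃ (n : ℕ) (b : B), algebraMap B R b = algebraMap B R h ^ n * r) :
    Algebra.IsEtaleAt S (P.comap (algebraMap B R)) := by
  let p := P.comap (algebraMap B R)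
  let φ : Localization.AtPrime p →ₐ[S] Localization.AtPrime P :=
    IsLocalization.liftAlgHom (M := p.primeCompl) (S := Localization.AtPrime p)
      (f := (IsScalarTower.toAlgHom S R (Localization.AtPrime P)).comp (IsScalarTower.toAlgHom S B R))
      (fun s => IsLocalization.map_units (Localization.AtPrime P) (⟨algebraMap B R s.1, s.2⟩ : P.primeCompl))
  have hφ : ∀ b, φ (algebraMap B (Localization.AtPrime p) b) =
      algebraMap R (Localization.AtPrime P) (algebraMap B R b) := fun b => IsLocalization.lift_eq _ b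
  have hbij : Function.Bijective φ := by
    constructor
    · refine (injective_iff_map_eq_zero _).2 fun z hz => ?_
      obtain ⟨b, s, rfl⟩ := IsLocalization.exists_mk'_eq p.primeCompl z
      have h0 : algebraMap R (Localization.AtPrime P) (algebraMap B R b) = 0 := by
        rw [← hφ, ← IsLocalization.mk'_spec (Localization.AtPrime p) b s, map_mul, hz, zero_mul]
      obtain ⟨⟨t, ht⟩, he⟩ := (IsLocalization.map_eq_zero_iff P.primeCompl _ _).1 h0
      obtain ⟨n, b', hb'⟩ := hsat t
      have hb'p : b' ∈ p.primeCompl := fun hm => by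
        have hm' : algebraMap B R b' ∈ P := hm
        rw [hb'] at hm'
        exact (‹P.IsPrime›.mem_or_mem hm').elim (fun h1 => hh (‹P.IsPrime›.mem_of_pow_mem n h1)) ht
      rw [IsLocalization.mk'_eq_zero_iff]
      refine ⟨⟨b', hb'p⟩, hinj ?_⟩
      rw [map_mul, map_zero, hb', mul_assoc]
      simp only at he
      rw [he, mul_zero]
    · intro z
      obtain ⟨r, ⟨t, ht⟩, rfl⟩ := IsLocalization.exists_mk'_eq P.primeCompl z
      obtain ⟨i, b, hb⟩ := hsat r
      obtain ⟨j, b', hb'⟩ := hsat t
      have hb'p : b' * h ^ i ∈ p.primeCompl := fun hm => by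
        have hm' : algebraMap B R (b' * h ^ i) ∈ P := hm
        rw [map_mul, map_pow, hb'] at hm'
        rcases ‹P.IsPrime›.mem_or_mem hm' with h1 | h1
        · exact (‹P.IsPrime›.mem_or_mem h1).elim (fun h2 => hh (‹P.IsPrime›.mem_of_pow_mem j h2)) ht
        · exact hh (‹P.IsPrime›.mem_of_pow_mem i h1)
      refine ⟨IsLocalization.mk' (Localization.AtPrime p) (b * h ^ j) (⟨_, hb'p⟩ : p.primeCompl), ?_⟩
      rw [IsLocalization.eq_mk'_iff_mul_eq]
      have := congrArg φ (IsLocalization.mk'_spec (Localization.AtPrime p) (b * h ^ j) (⟨_, hb'p⟩ : p.primeCompl))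
      rw [map_mul, hφ, hφ] at this
      simp only [map_mul, map_pow, hb, hb'] at this ⊢
      have hu : IsUnit (algebraMap R (Localization.AtPrime P) (algebraMap B R h)) :=
        IsLocalization.map_units (Localization.AtPrime P) (⟨_, hh⟩ : P.primeCompl)
      exact (hu.pow i).mul_left_cancel ((hu.pow j).mul_left_cancel (by linear_combination this))
  haveI : Algebra.FormallyEtale S (Localization.AtPrime P) := ‹Algebra.IsEtaleAt S P›
  exact Algebra.FormallyEtale.of_equiv (AlgEquiv.ofBijective φ hbij).symm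

variable [IsAlgClosed k] [CharZero k] [IsDomain A] [Algebra.FiniteType k A]
variable [Algebra.FiniteType k S] [Algebra.FiniteType k B] [Module.Finite S B]
variable {S₀ : Type u} [CommRing S₀] [Algebra k S₀] [Algebra S₀ S] [IsScalarTower k S₀ S]
variable {B₀ : Type u} [CommRing B₀] [Algebra k B₀] [Algebra B₀ B] [IsScalarTower k B₀ B]
variable [Algebra S₀ B₀] [Algebra S₀ B] [IsScalarTower S₀ S B] [IsScalarTower S₀ B₀ B]

omit [IsScalarTower k S B] in
/-- Near a closed orbit with trivial isotropy jump the invariants generate. -/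
theorem exists_surjective_invariant [IsScalarTower k S B] (hA : HopfRep.IsLinearlyReductive k A)
    (hequiv : Equivariant k A S B)
    (hB₀ : ∀ c : B, c ∈ GLin.invariants k A B ↔ ∃ r, algebraMap B₀ B r = c)
    (x : B →ₐ[k] k) [(RingHom.ker x).IsPrime] [Algebra.IsEtaleAt S (RingHom.ker x)]
    (hcl : ∀ z : B →ₐ[k] k, RingHom.ker (GLin.orbitHom k A x) ≤ RingHom.ker z →
      ∃ g : A →ₐ[k] k, z = GLin.actPt k g x)
    (hinj : ∀ g : A →ₐ[k] k, GLin.actPt k g (x.comp (IsScalarTower.toAlgHom k S B)) =
      x.comp (IsScalarTower.toAlgHom k S B) → GLin.actPt k g x = x) :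
    ∃ a : B₀, x (algebraMap B₀ B a) = 1 ∧ ∀ c : B,
      algebraMap B₀ B a * c ∈ (Algebra.TensorProduct.productMap (IsScalarTower.toAlgHom S₀ S B)
        (IsScalarTower.toAlgHom S₀ B₀ B)).range := by
  classical
  haveI : IsNoetherianRing S := Algebra.FiniteType.isNoetherianRing k S
  haveI : IsNoetherianRing B := Algebra.FiniteType.isNoetherianRing k B
  haveI : Algebra.FiniteType S B := Algebra.FiniteType.of_restrictScalars_finiteType k S B
  set y := x.comp (IsScalarTower.toAlgHom k S B) with hy
  set Φ := Algebra.TensorProduct.productMap (IsScalarTower.toAlgHom S₀ S B) (IsScalarTower.toAlgHom S₀ B₀ B) with hΦ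
  have hΦ1 : ∀ (s : S) (b : B₀), Φ (s ⊗ₜ b) = algebraMap S B s * algebraMap B₀ B b := fun s b => by simp [hΦ]
  letI : Algebra (S ⊗[S₀] B₀) B := Φ.toRingHom.toAlgebra
  haveI : IsScalarTower S (S ⊗[S₀] B₀) B := IsScalarTower.of_algebraMap_eq fun s => by
    show algebraMap S B s = Φ (s ⊗ₜ 1)
    rw [hΦ1, map_one, mul_one]
  haveI : Module.Finite (S ⊗[S₀] B₀) B := Module.Finite.of_restrictScalars_finite S _ B
  let N : Submodule (S ⊗[S₀] B₀) B := LinearMap.range (Algebra.linearMap (S ⊗[S₀] B₀) B)
  have hN : ∀ c : B, c ∈ N ↔ c ∈ Φ.range := fun c => by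
    simp only [N, LinearMap.mem_range, Algebra.linearMap_apply, AlgHom.mem_range]
    rfl
  let q : Ideal (S ⊗[S₀] B₀) := (RingHom.ker x).comap (algebraMap (S ⊗[S₀] B₀) B)
  let I : Ideal B := q.map (algebraMap (S ⊗[S₀] B₀) B)
  haveI : (RingHom.ker y).IsPrime := RingHom.ker_isPrime _
  obtain ⟨r0, hr0, hr0'⟩ := exists_mul_mem_map (RingHom.ker x) (RingHom.ker y) (RingHom.ker x)
    (fun P hP hPx hyP => by
      intro a ha
      by_contra haP
      haveI := hP
      have hlt := Ideal.comap_lt_comap_of_integral_mem_sdiff (R := S) hPx ⟨ha, haP⟩ (Algebra.IsIntegral.isIntegral a)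
      exact (not_le_of_gt hlt) fun s hs =>
        (Ideal.map_le_iff_le_comap.1 hyP) (show s ∈ RingHom.ker y from hs))
  have hyI : (RingHom.ker y).map (algebraMap S B) ≤ I := by
    rw [Ideal.map_le_iff_le_comap]
    intro s hs
    rw [Ideal.mem_comap, IsScalarTower.algebraMap_apply S (S ⊗[S₀] B₀) B]
    refine Ideal.mem_map_of_mem _ ?_
    show algebraMap (S ⊗[S₀] B₀) B _ ∈ RingHom.ker x
    rw [← IsScalarTower.algebraMap_apply]
    exact RingHom.mem_ker.2 (RingHom.mem_ker.1 hs)
  have hrB : ∀ r : B₀, algebraMap B₀ B r - algebraMap k B (x (algebraMap B₀ B r)) ∈ I := by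
    intro r
    have e : algebraMap B₀ B r - algebraMap k B (x (algebraMap B₀ B r)) =
        algebraMap (S ⊗[S₀] B₀) B ((1 : S) ⊗ₜ[S₀] (r - algebraMap k B₀ (x (algebraMap B₀ B r)))) := by
      show _ = Φ _
      rw [hΦ1, map_one, one_mul, map_sub, ← IsScalarTower.algebraMap_apply]
    rw [e]
    refine Ideal.mem_map_of_mem _ ?_
    show algebraMap (S ⊗[S₀] B₀) B _ ∈ RingHom.ker x
    rw [← e, RingHom.mem_ker, map_sub, AlgHom.commutes]
    simp
  let I' : Ideal B :=
    { carrier := {a | ∀ c ∈ RingHom.ker x, a * c ∈ I}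
      add_mem' := fun ha hb c hc => by rw [add_mul]; exact I.add_mem (ha c hc) (hb c hc)
      zero_mem' := fun c _ => by simp
      smul_mem' := fun a b hb c hc => by rw [smul_eq_mul, mul_assoc]; exact I.mul_mem_left a (hb c hc) }
  have hI' : I' = ⊤ := by
    by_contra hne
    obtain ⟨φ, hφ⟩ := ClosedOrbit.exists_pt (k := k) hne
    have hIφ : ∀ a ∈ I, φ a = 0 := fun a ha => RingHom.mem_ker.1 (hφ fun c _ => I.mul_mem_right c ha)
    have hφy : φ.comp (IsScalarTower.toAlgHom k S B) = y := AlgHom.ext fun s => by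
      have h0 := hIφ _ (hyI (Ideal.mem_map_of_mem _
        (show s - algebraMap k S (y s) ∈ RingHom.ker y by simp [RingHom.mem_ker])))
      rw [map_sub, ← IsScalarTower.algebraMap_apply, map_sub, AlgHom.commutes, sub_eq_zero] at h0
      simpa using h0
    have hφ0 : φ.comp (GLin.invariants k A B).val = x.comp (GLin.invariants k A B).val := AlgHom.ext fun c => by
      obtain ⟨r, hr⟩ := (hB₀ _).1 c.2
      have h0 := hIφ _ (hrB r)
      rw [map_sub, AlgHom.commutes, sub_eq_zero] at h0
      simpa [← hr] using h0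
    obtain ⟨w, hw1, hw2, hw3⟩ := ClosedOrbit.exists_closed_in_fibre (A := A) hA x
    obtain ⟨g, hg⟩ := hw3 x rfl hcl
    have hcx : GLin.InOrbitClosure k A φ x := by
      rw [hg]
      exact ClosedOrbit.inOrbitClosure_trans (hw2 φ hφ0) (ClosedOrbit.inOrbitClosure_actPt g w)
    have hle : RingHom.ker (GLin.orbitHom k A φ) ≤ RingHom.ker (GLin.orbitHom k A x) :=
      ClosedOrbit.ker_le_of_inOrbitClosure hcx
    haveI : (RingHom.ker (GLin.orbitHom k A φ)).IsPrime := RingHom.ker_isPrime _
    have hKφ : RingHom.ker (GLin.orbitHom k A x) ≤ RingHom.ker φ := by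
      intro c hc
      refine ClosedOrbit.inOrbitClosure_refl (A := A) φ (by_contra fun hcφ => ?_)
      have hlt := Ideal.comap_lt_comap_of_integral_mem_sdiff (R := S) hle ⟨hc, hcφ⟩ (Algebra.IsIntegral.isIntegral c)
      rw [comap_ker_orbit hequiv, comap_ker_orbit hequiv, hφy] at hlt
      exact lt_irrefl _ hlt
    obtain ⟨g', rfl⟩ := hcl φ hKφ
    have hy' : GLin.actPt k g' y = y := (actPt_comp hequiv g' x).symm.trans hφy
    have h3 := RingHom.mem_ker.1 (hφ (show r0 ∈ I' from fun c hc => hyI (hr0' c hc)))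
    rw [hinj g' hy'] at h3
    exact hr0 (RingHom.mem_ker.2 h3)
  have hmI : RingHom.ker x ≤ I := fun c hc => by
    simpa using (hI' ▸ Submodule.mem_top : (1 : B) ∈ I') c hc
  have htop : (⊤ : Submodule (S ⊗[S₀] B₀) (B ⧸ N)) ≤ q • (⊤ : Submodule (S ⊗[S₀] B₀) (B ⧸ N)) := by
    rintro a -
    induction a using Submodule.Quotient.induction_on with
    | _ a =>
    have hd : a - algebraMap k B (x a) ∈ I := hmI (by simp [RingHom.mem_ker])
    have hc' : a - (a - algebraMap k B (x a)) ∈ N := by
      rw [sub_sub_cancel, hN]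
      exact ⟨algebraMap k S (x a) ⊗ₜ 1, (hΦ1 _ _).trans (by rw [map_one, mul_one, ← IsScalarTower.algebraMap_apply])⟩
    rw [show (Submodule.Quotient.mk a : B ⧸ N) = Submodule.Quotient.mk (a - algebraMap k B (x a)) from
      (Submodule.Quotient.eq N).2 hc']
    have hd' : a - algebraMap k B (x a) ∈ q • (⊤ : Submodule (S ⊗[S₀] B₀) B) := by
      rw [Ideal.smul_top_eq_map]; exact hd
    refine Submodule.smul_induction_on hd' (fun s hs b _ => ?_) (fun p r hp hr => ?_)
    · rw [Submodule.Quotient.mk_smul]; exact Submodule.smul_mem_smul hs Submodule.mem_top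
    · rw [Submodule.Quotient.mk_add]; exact Submodule.add_mem _ hp hr
  obtain ⟨t, ht, ht'⟩ := Submodule.exists_sub_one_mem_and_smul_eq_zero_of_fg_of_le_smul q ⊤
    Module.Finite.fg_top htop
  let D : Ideal B :=
    { carrier := {a | ∀ c : B, a * c ∈ Φ.range}
      add_mem' := fun ha hb c => by rw [add_mul]; exact Φ.range.add_mem (ha c) (hb c)
      zero_mem' := fun c => by rw [zero_mul]; exact Φ.range.zero_mem
      smul_mem' := fun a b hb c => by
        rw [smul_eq_mul, show a * b * c = b * (a * c) by ring]; exact hb _ }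
  have htD : Φ t ∈ D := fun c => by
    rw [← hN]
    have h0 := ht' (Submodule.Quotient.mk c) Submodule.mem_top
    rw [← Submodule.Quotient.mk_smul, Submodule.Quotient.mk_eq_zero] at h0
    exact h0
  have htx : x (Φ t) ≠ 0 := by
    have h0 : algebraMap (S ⊗[S₀] B₀) B (t - 1) ∈ RingHom.ker x := ht
    rw [RingHom.mem_ker, map_sub, map_one, map_sub, map_one, sub_eq_zero] at h0
    exact fun h1 => one_ne_zero (α := k) (h0.symm.trans h1)
  have hrange : ∀ (g : A →ₐ[k] k), ∀ c ∈ Φ.range, transl k A g c ∈ Φ.range := by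
    rintro g _ ⟨p, rfl⟩
    induction p with
    | zero => simp
    | add a b ha hb => rw [map_add, map_add]; exact Φ.range.add_mem ha hb
    | tmul s b =>
      refine ⟨transl k A g s ⊗ₜ b, ?_⟩
      show Φ _ = transl k A g (Φ _)
      rw [hΦ1, hΦ1, map_mul, transl_algebraMap hequiv, transl_invariant ((hB₀ _).2 ⟨b, rfl⟩)]
  have hDst : Stable (k := k) A D := fun g a ha c => by
    rw [← transl_transl_inv g c, ← map_mul]
    exact hrange g _ (ha _)
  obtain ⟨e, hei, heD, he1⟩ := exists_invariant_of_sup_eq_top hA hDst (stable_ker_orbit x)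
    (sup_eq_top hcl hDst htD htx)
  obtain ⟨a, ha⟩ := (hB₀ e).1 hei
  refine ⟨a, ?_, fun c => by rw [ha]; exact heD c⟩
  have h0 := RingHom.mem_ker.1 (ClosedOrbit.inOrbitClosure_refl x he1)
  rw [map_sub, map_one, sub_eq_zero] at h0
  rw [ha]
  exact h0

end Groth.Agent.EtNhd
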