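import Groth.Agent.EtInvLib.Descend
import Mathlib

/-!
# A finite equivariant model around a closed orbit
-/

set_option autoImplicit false
set_option backward.isDefEq.respectTransparency false
set_option backward.isDefEq.respectTransparency.types false

noncomputable section

universe u

open TensorProduct WithConv

namespace Groth.Agent.EtNhd

open Groth.Agent.Comodule Groth.Agent.EqZMT Groth.Agent.EtInv

variable {k : Type u} [Field k] [IsAlgClosed k] [CharZero k] {A : Type u} [CommRing A] [IsDomain A]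
  [HopfAlgebra k A] [Algebra.FiniteType k A]
variable {S : Type u} [CommRing S] [Algebra k S] [Algebra.FiniteType k S] [HopfRep.Comod k A S]
  [GLin.IsCoactAlg k A S]
variable {R : Type u} [CommRing R] [Algebra k R] [Algebra.FiniteType k R] [HopfRep.Comod k A R]
  [GLin.IsCoactAlg k A R]
variable [Algebra S R] [IsScalarTower k S R]

/-- A point over a closed orbit at which the map is quasi-finite has a closed orbit. -/
theorem closed_above (hequiv : Equivariant k A S R) (x : R →ₐ[k] k)
    (hy : ∀ w : S →ₐ[k] k, RingHom.ker (GLin.orbitHom k A (x.comp (IsScalarTower.toAlgHom k S R))) ≤ RingHom.ker w →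
      ∃ g : A →ₐ[k] k, w = GLin.actPt k g (x.comp (IsScalarTower.toAlgHom k S R)))
    {r : R} (hr : x r ≠ 0) (hint : IsIntegral S r) (hsat : ∀ c : R, ∃ m : ℕ, IsIntegral S (r ^ m * c))
    (φ : R →ₐ[k] k) (hφ : RingHom.ker (GLin.orbitHom k A x) ≤ RingHom.ker φ) :
    ∃ g : A →ₐ[k] k, φ = GLin.actPt k g x := by
  set K := RingHom.ker (GLin.orbitHom k A x) with hK
  haveI : K.IsPrime := RingHom.ker_isPrime _
  have hrK : r ∉ K := fun h => hr (RingHom.mem_ker.1 (ClosedOrbit.inOrbitClosure_refl x h))
  have key : ∀ z : R →ₐ[k] k, K ≤ RingHom.ker z → RingHom.ker (GLin.orbitHom k A z) = K := by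
    intro z hz
    haveI : (RingHom.ker (GLin.orbitHom k A z)).IsPrime := RingHom.ker_isPrime _
    have hle : K ≤ RingHom.ker (GLin.orbitHom k A z) := ClosedOrbit.ker_le_of_inOrbitClosure hz
    refine le_antisymm (fun c hc => ?_) hle
    by_contra hcK
    obtain ⟨m, hm⟩ := hsat c
    have hnot : r ^ m * c ∉ K := fun h =>
      ((‹K.IsPrime›.mem_or_mem h).elim (fun h1 => hrK (‹K.IsPrime›.mem_of_pow_mem m h1)) hcK)
    have hlt := Ideal.comap_lt_comap_of_integral_mem_sdiff (R := S) hle
      ⟨Ideal.mul_mem_left _ _ hc, hnot⟩ hm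
    obtain ⟨g, hg⟩ := hy (z.comp (IsScalarTower.toAlgHom k S R)) (by
      rw [← comap_ker_orbit hequiv]
      exact fun s hs => hz hs)
    have e : RingHom.ker (GLin.orbitHom k A (z.comp (IsScalarTower.toAlgHom k S R))) =
        RingHom.ker (GLin.orbitHom k A (x.comp (IsScalarTower.toAlgHom k S R))) := by
      refine le_antisymm (ClosedOrbit.ker_le_of_inOrbitClosure ?_) (ClosedOrbit.ker_le_of_inOrbitClosure ?_)
      · rw [hg]; exact ClosedOrbit.inOrbitClosure_of_actPt g _
      · rw [hg]; exact ClosedOrbit.inOrbitClosure_actPt g _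
    rw [hK, comap_ker_orbit hequiv, comap_ker_orbit hequiv, e] at hlt
    exact lt_irrefl _ hlt
  obtain ⟨w, hw1, hw2⟩ := ClosedOrbit.exists_minimal_closure (A := A) φ
  have hwK : RingHom.ker (GLin.orbitHom k A w) = K :=
    key w (hφ.trans' le_rfl |> fun h => ((ClosedOrbit.inOrbitClosure_trans (A := A)
      (show GLin.InOrbitClosure k A x φ from h) hw1)))
  obtain ⟨g, hg⟩ := hw2 φ (show RingHom.ker (GLin.orbitHom k A w) ≤ RingHom.ker φ from hwK ▸ hφ)
  obtain ⟨g', hg'⟩ := hw2 x (show RingHom.ker (GLin.orbitHom k A w) ≤ RingHom.ker x from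
    hwK ▸ ClosedOrbit.inOrbitClosure_refl x)
  refine ⟨(toConv (inv g') * toConv g).ofConv, ?_⟩
  have hw : GLin.actPt k (inv g') x = w := by
    rw [hg']; exact (ClosedOrbit.exists_actPt_symm g' w).symm
  rw [← ClosedOrbit.actPt_actPt, hw]
  exact hg

/-- A stable finite subalgebra which is the whole ring near the closed orbit. -/
theorem exists_finite_model (hequiv : Equivariant k A S R) (hA : HopfRep.IsLinearlyReductive k A)
    (x : R →ₐ[k] k) [(RingHom.ker x).IsPrime] [Algebra.IsEtaleAt S (RingHom.ker x)]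
    (hy : ∀ w : S →ₐ[k] k, RingHom.ker (GLin.orbitHom k A (x.comp (IsScalarTower.toAlgHom k S R))) ≤ RingHom.ker w →
      ∃ g : A →ₐ[k] k, w = GLin.actPt k g (x.comp (IsScalarTower.toAlgHom k S R))) :
    ∃ (B : Type u) (_ : CommRing B) (_ : Algebra k B) (_ : HopfRep.Comod k A B) (_ : GLin.IsCoactAlg k A B)
      (_ : Algebra S B) (_ : IsScalarTower k S B) (_ : Algebra B R) (_ : IsScalarTower k B R)
      (_ : IsScalarTower S B R),
      Algebra.FiniteType k B ∧ Module.Finite S B ∧ Equivariant k A S B ∧ Equivariant k A B R ∧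
      Function.Injective (algebraMap B R) ∧
      ∃ h ∈ GLin.invariants k A B, x (algebraMap B R h) = 1 ∧
        ∀ r : R, ∃ (n : ℕ) (b : B), algebraMap B R b = algebraMap B R h ^ n * r := by
  classical
  haveI : Algebra.FiniteType S R := Algebra.FiniteType.of_restrictScalars_finiteType k S R
  obtain ⟨T, hT⟩ := Algebra.FiniteType.out (R := k) (A := R)
  obtain ⟨r0, hr0, hr0i, hsat⟩ :=
    Algebra.zariskisMainProperty_iff.mp (Algebra.ZariskisMainProperty.of_finiteType (R := S) (RingHom.ker x))
  choose m hm using hsat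
  let C : Submodule k R := Subalgebra.toSubmodule ((integralClosure S R).restrictScalars k)
  have hC : HopfRep.IsSubcomod (k := k) (A := A) C := by
    refine isSubcomod_of_transl k A C fun g a ha => ?_
    have ha' : IsIntegral S a := ha
    show IsIntegral S (transl k A g a)
    refine IsIntegral.map_of_comp_eq (transl k A g : S →ₐ[k] S).toRingHom (transl k A g).toRingHom ?_ ha'
    ext s
    exact (transl_algebraMap hequiv g s).symm
  let G : Finset R := insert r0 (T.image fun z => r0 ^ m z * z)
  have hG : ∀ a ∈ G, a ∈ C := by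
    intro a ha
    simp only [G, Finset.mem_insert, Finset.mem_image] at ha
    rcases ha with rfl | ⟨z, -, rfl⟩
    exacts [hr0i, hm _]
  let W : Submodule k R := (Submodule.span (WithConv (A →ₗ[k] k)) (G : Set R)).restrictScalars k
  have hW : HopfRep.IsSubcomod (k := k) (A := A) W := isSubcomod_restrictScalars _
  have hGW : (G : Set R) ⊆ W := fun a ha => Submodule.subset_span ha
  have hWC : W ≤ C := fun a ha =>
    (Submodule.span_le.2 (fun b hb => hG b hb) :
      Submodule.span (WithConv (A →ₗ[k] k)) (G : Set R) ≤ toDual C hC) ha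
  haveI : Module.Finite k W := finite_span_of_finite G.finite_toSet
  obtain ⟨Tw, hTw⟩ := (Module.Finite.iff_fg.1 ‹_› : W.FG)
  have hTwW : (Tw : Set R) ⊆ W := hTw ▸ Submodule.subset_span
  let Bs : Subalgebra S R := Algebra.adjoin S (Tw : Set R)
  haveI : Module.Finite S Bs := ⟨(Submodule.fg_top _).2
    (fg_adjoin_of_finite Tw.finite_toSet fun a ha => hWC (hTwW ha))⟩
  let B : Subalgebra k R := Bs.restrictScalars k
  have hWB : ∀ a ∈ W, a ∈ B := fun a ha =>
    (hTw ▸ Submodule.span_le.2 fun b hb => Algebra.subset_adjoin hb : W ≤ Subalgebra.toSubmodule B) ha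
  letI : Algebra S B := ((IsScalarTower.toAlgHom k S R).codRestrict B fun s => Bs.algebraMap_mem s).toAlgebra
  haveI : Module.Finite S B :=
    Module.Finite.equiv (R := S) (M := Bs)
      { toFun := fun a => (⟨a.1, a.2⟩ : B)
        map_add' := fun _ _ => rfl
        map_smul' := fun s a => Subtype.ext (Algebra.smul_def s (a : R))
        invFun := fun a => ⟨a.1, a.2⟩
        left_inv := fun _ => rfl
        right_inv := fun _ => rfl }
  haveI : IsScalarTower k S B := IsScalarTower.of_algebraMap_eq fun c => Subtype.ext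
    (IsScalarTower.algebraMap_apply k S R c)
  haveI : IsScalarTower S B R := IsScalarTower.of_algebraMap_eq fun s => rfl
  let ψ : S →ₐ[k] B := IsScalarTower.toAlgHom k S B
  have hval : B.val.comp ψ = IsScalarTower.toAlgHom k S R := AlgHom.ext fun s => rfl
  have hmap : ∀ z : S ⊗[k] A, Algebra.TensorProduct.map B.val (AlgHom.id k A)
      (Algebra.TensorProduct.map ψ (AlgHom.id k A) z) =
        Algebra.TensorProduct.map (IsScalarTower.toAlgHom k S R) (AlgHom.id k A) z := fun z => by
    rw [← hval, ← AlgHom.comp_apply, ← Algebra.TensorProduct.map_comp, AlgHom.comp_id]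
  have htrW : ∀ (g : A →ₐ[k] k), ∀ a ∈ W, transl k A g a ∈ W := fun g a ha => by
    rw [transl_apply]
    exact isSubcomod_iff.1 hW (toConv g.toLinearMap) a ha
  have hsub : HopfRep.IsSubcomod (k := k) (A := A) (Subalgebra.toSubmodule B) := by
    refine isSubcomod_of_transl k A _ fun g a ha => ?_
    have ha' : a ∈ Bs := ha
    show transl k A g a ∈ Bs
    induction ha' using Algebra.adjoin_induction with
    | mem w hw => exact hWB _ (htrW g w (hTwW hw))
    | algebraMap s => rw [transl_algebraMap hequiv]; exact Bs.algebraMap_mem _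
    | add p q hp hq h1 h2 => rw [map_add]; exact Bs.add_mem (h1 hp) (h2 hq)
    | mul p q hp hq h1 h2 => rw [map_mul]; exact Bs.mul_mem (h1 hp) (h2 hq)
  letI cB : HopfRep.Comod k A B := subComod (Subalgebra.toSubmodule B) hsub
  have hco : ∀ a : B, Algebra.TensorProduct.map B.val (AlgHom.id k A) (HopfRep.Comod.coact (k := k) (A := A) a) =
      HopfRep.Comod.coact (k := k) (A := A) (a : R) := fun a =>
    (map_val_id_apply k A B _).trans (rTensor_subCoact (Subalgebra.toSubmodule B) hsub a)
  haveI : GLin.IsCoactAlg k A B :=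
    { coact_one := map_val_id_injective k A B (by
        rw [hco, map_one]; exact GLin.IsCoactAlg.coact_one (k := k) (A := A) (R := R))
      coact_mul := fun f g => map_val_id_injective k A B (by
        rw [hco, map_mul, hco, hco]; exact GLin.IsCoactAlg.coact_mul (k := k) (A := A) (f : R) g) }
  have heSB : Equivariant k A S B := fun s => map_val_id_injective k A B (by
    rw [hco, hmap]; exact hequiv s)
  have heBR : Equivariant k A B R := fun a => (hco a).symm
  haveI : Algebra.FiniteType k B :=
    Algebra.FiniteType.trans (S := S) (A := B) inferInstance inferInstance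
  have hr0B : r0 ∈ B := hWB _ (hGW (Finset.mem_insert_self _ _))
  have hsatB : ∀ c : R, ∃ n, r0 ^ n * c ∈ B := by
    intro c
    have hc : c ∈ Algebra.adjoin k (T : Set R) := hT ▸ Algebra.mem_top
    induction hc using Algebra.adjoin_induction with
    | mem b hb => exact ⟨_, hWB _ (hGW (Finset.mem_insert_of_mem (Finset.mem_image_of_mem _ hb)))⟩
    | algebraMap c => exact ⟨0, by simpa using B.algebraMap_mem c⟩
    | add a b _ _ ha hb =>
      obtain ⟨i, hi⟩ := ha
      obtain ⟨j, hj⟩ := hb
      refine ⟨i + j, ?_⟩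
      rw [show r0 ^ (i + j) * (a + b) = r0 ^ j * (r0 ^ i * a) + r0 ^ i * (r0 ^ j * b) by ring]
      exact B.add_mem (B.mul_mem (B.pow_mem hr0B j) hi) (B.mul_mem (B.pow_mem hr0B i) hj)
    | mul a b _ _ ha hb =>
      obtain ⟨i, hi⟩ := ha
      obtain ⟨j, hj⟩ := hb
      refine ⟨i + j, ?_⟩
      rw [show r0 ^ (i + j) * (a * b) = (r0 ^ i * a) * (r0 ^ j * b) by ring]
      exact B.mul_mem hi hj
  -- the orbit is closed in the model
  let xB : B →ₐ[k] k := x.comp B.val
  have hclB : ∀ φ : B →ₐ[k] k, RingHom.ker (GLin.orbitHom k A xB) ≤ RingHom.ker φ →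
      ∃ g : A →ₐ[k] k, φ = GLin.actPt k g xB := by
    refine closed_above heSB xB hy (r := ⟨r0, hr0B⟩) (fun h => hr0 (RingHom.mem_ker.2 h))
      (Algebra.IsIntegral.isIntegral _) fun c => ⟨0, Algebra.IsIntegral.isIntegral _⟩
  -- the conductor
  let D : Ideal B :=
    { carrier := {c | ∀ r : R, ∃ n, (c : R) ^ n * r ∈ B}
      add_mem' := fun {a b} ha hb r => by
        obtain ⟨i, hi⟩ := ha r
        obtain ⟨j, hj⟩ := hb r
        refine ⟨i + j, ?_⟩
        rw [show ((a + b : B) : R) = (a : R) + (b : R) from rfl, add_pow, Finset.sum_mul]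
        refine Subalgebra.sum_mem _ fun l _ => ?_
        by_cases hl : i ≤ l
        · obtain ⟨l', rfl⟩ := Nat.exists_eq_add_of_le hl
          rw [show (a : R) ^ (i + l') * (b : R) ^ (i + j - (i + l')) * ((i + j).choose (i + l') : R) * r =
              ((a : R) ^ l' * (b : R) ^ (i + j - (i + l')) * ((i + j).choose (i + l') : R)) * ((a : R) ^ i * r) by ring]
          exact B.mul_mem (B.mul_mem (B.mul_mem (B.pow_mem a.2 _) (B.pow_mem b.2 _)) (natCast_mem B _)) hi
        · rw [show (a : R) ^ l * (b : R) ^ (i + j - l) * ((i + j).choose l : R) * r =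
              ((a : R) ^ l * (b : R) ^ (i - l) * ((i + j).choose l : R)) * ((b : R) ^ j * r) by
            rw [show i + j - l = (i - l) + j by omega]; ring]
          exact B.mul_mem (B.mul_mem (B.mul_mem (B.pow_mem a.2 _) (B.pow_mem b.2 _)) (natCast_mem B _)) hj
      zero_mem' := fun r => ⟨1, by simp⟩
      smul_mem' := fun a b hb r => by
        obtain ⟨i, hi⟩ := hb r
        refine ⟨i, ?_⟩
        rw [smul_eq_mul, show ((a * b : B) : R) = (a : R) * (b : R) from rfl, mul_pow, mul_assoc]
        exact B.mul_mem (B.pow_mem a.2 _) hi }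
  have hDst : Stable (k := k) A D := by
    intro g c hc r
    obtain ⟨n, hn⟩ := hc (transl k A (inv g) r)
    refine ⟨n, ?_⟩
    have e : ((transl k A g c : B) : R) = transl k A g (c : R) :=
      (transl_algebraMap heBR g c).symm
    rw [e, ← transl_transl_inv g r, ← map_pow, ← map_mul,
      show transl k A g ((c : R) ^ n * transl k A (inv g) r) =
        ((transl k A g ⟨_, hn⟩ : B) : R) from transl_algebraMap heBR g ⟨_, hn⟩]
    exact SetLike.coe_mem _
  have hr0D : (⟨r0, hr0B⟩ : B) ∈ D := hsatB
  obtain ⟨h, hhi, hhD, hh1⟩ := exists_invariant_of_sup_eq_top hA hDst (stable_ker_orbit xB)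
    (sup_eq_top hclB hDst hr0D fun h => hr0 (RingHom.mem_ker.2 h))
  refine ⟨B, inferInstance, inferInstance, cB, inferInstance, inferInstance, inferInstance, inferInstance,
    inferInstance, inferInstance, inferInstance, inferInstance, heSB, heBR, Subtype.val_injective,
    h, hhi, ?_, fun r => ?_⟩
  · have h0 := RingHom.mem_ker.1 (ClosedOrbit.inOrbitClosure_refl xB hh1)
    rw [map_sub, map_one, sub_eq_zero] at h0
    exact h0
  · obtain ⟨n, hn⟩ := hhD r
    exact ⟨n, ⟨_, hn⟩, rfl⟩

end Groth.Agent.EtNhd
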